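import Cfsg.Agent.EqLemmas
import Mathlib

/-!
# Coherence of a family of norm-two differences

* `exists_pos_neg`: an integer vector of norm two orthogonal to the degrees is a difference of two unit vectors;
* `exists_coherent`: a family of integer vectors with pairwise differences of norm two and mutual product one
  differs from a common vector by signed unit vectors.
-/

set_option autoImplicit false

namespace Cfsg.Agent.ReeCover

open Finset

variable {X : Type*} [Fintype X] [DecidableEq X]

theorem exists_pos_neg {deg v : X → ℤ} (hpos : ∀ x, 0 < deg x) (h2 : ∑ x, v x ^ 2 = 2)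
    (h0 : ∑ x, v x * deg x = 0) :
    ∃ p n : X, p ≠ n ∧ ∀ x, v x = (if p = x then 1 else 0) - (if n = x then 1 else 0) := by
  have hb : ∀ x, v x = -1 ∨ v x = 0 ∨ v x = 1 := by
    intro x
    have h : v x ^ 2 ≤ 2 := h2 ▸ Finset.single_le_sum (fun y _ => sq_nonneg (v y)) (Finset.mem_univ x)
    have h' : v x ≤ 1 ∧ -1 ≤ v x := by constructor <;> nlinarith
    omega
  set S := Finset.univ.filter fun x => v x ≠ 0 with hS
  have hcard : (S.card : ℤ) = 2 := by
    rw [← h2, hS, Finset.card_filter, Nat.cast_sum]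
    refine Finset.sum_congr rfl fun x _ => ?_
    rcases hb x with h | h | h <;> simp [h]
  obtain ⟨a, b, hab, hSab⟩ := Finset.card_eq_two.1 (by omega : S.card = 2)
  have hz : ∀ x, x ≠ a → x ≠ b → v x = 0 := fun x ha hbb => by
    by_contra hne
    have : x ∈ S := by simp [hS, hne]
    simp [hSab, ha, hbb] at this
  have hva : v a ≠ 0 := by
    have : a ∈ S := by simp [hSab]
    simpa [hS] using this
  have hvb : v b ≠ 0 := by
    have : b ∈ S := by simp [hSab]
    simpa [hS] using this
  have hsum : v a * deg a + v b * deg b = 0 := by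
    rw [← h0, ← Finset.sum_subset (Finset.subset_univ S) (fun x _ hx => ?_), hSab, Finset.sum_pair hab]
    have : v x = 0 := by
      by_contra hne
      exact hx (by simp [hS, hne])
    simp [this]
  rcases hb a with ha | ha | ha
  · have hb1 : v b = 1 := by
      rcases hb b with h | h | h
      · rw [ha, h] at hsum; linarith [hpos a, hpos b]
      · exact absurd h hvb
      · exact h
    refine ⟨b, a, hab.symm, fun x => ?_⟩
    by_cases h1 : x = a
    · subst h1; simp [ha, hab.symm]
    by_cases h2 : x = b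
    · subst h2; simp [hb1, hab]
    · simp [hz x h1 h2, Ne.symm h1, Ne.symm h2]
  · exact absurd ha hva
  · have hb1 : v b = -1 := by
      rcases hb b with h | h | h
      · exact h
      · exact absurd h hvb
      · rw [ha, h] at hsum; linarith [hpos a, hpos b]
    refine ⟨a, b, hab, fun x => ?_⟩
    by_cases h1 : x = a
    · subst h1; simp [ha, hab.symm]
    by_cases h2 : x = b
    · subst h2; simp [hb1, hab]
    · simp [hz x h1 h2, Ne.symm h1, Ne.symm h2]

/-- **Coherence**. -/
theorem exists_coherent {ι : Type*} [Fintype ι] [DecidableEq ι] (h3 : 3 ≤ Fintype.card ι)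
    (deg : X → ℤ) (hpos : ∀ x, 0 < deg x) (M : ι → X → ℤ)
    (hdeg : ∀ i j, ∑ x, (M i x - M j x) * deg x = 0)
    (hnorm : ∀ i j, i ≠ j → ∑ x, (M i x - M j x) ^ 2 = 2)
    (hip : ∀ i j l, i ≠ j → i ≠ l → j ≠ l → ∑ x, (M i x - M j x) * (M i x - M l x) = 1) :
    ∃ (ξ : ι → X) (δ : ℤ) (c : X → ℤ), Function.Injective ξ ∧ (δ = 1 ∨ δ = -1) ∧
      ∀ i x, M i x = c x + δ * (if ξ i = x then 1 else 0) := by
  obtain ⟨i₀, a₁, a₂, h01, h02, h12⟩ := Fintype.two_lt_card_iff.1 h3
  have hd := fun j : {j : ι // j ≠ i₀} =>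
    exists_pos_neg hpos (hnorm i₀ j (Ne.symm j.2)) (hdeg i₀ j)
  choose P N hPN hv using hd
  have hone : ∀ j l : {j : ι // j ≠ i₀}, j ≠ l →
      ((if P j = P l then (1 : ℤ) else 0) - (if P j = N l then 1 else 0))
        - ((if N j = P l then 1 else 0) - (if N j = N l then 1 else 0)) = 1 := by
    intro j l hjl
    refine Eq.trans ?_ (hip i₀ j l (Ne.symm j.2) (Ne.symm l.2) (fun e => hjl (Subtype.ext e)))
    simp only [hv, sub_mul, Finset.sum_sub_distrib, ite_mul, one_mul, zero_mul,
      Finset.sum_ite_eq, Finset.mem_univ, if_true]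
    simp only [eq_comm (a := P j), eq_comm (a := N j)]
  have key : ∀ j l : {j : ι // j ≠ i₀}, j ≠ l →
      (P j = P l ∧ N j ≠ N l) ∨ (N j = N l ∧ P j ≠ P l) := by
    intro j l hjl
    have h := hone j l hjl
    by_cases e1 : P j = P l
    · by_cases e2 : N j = N l
      · exfalso
        have q1 : P j ≠ N l := fun e => hPN j (e.trans e2.symm)
        have q2 : N j ≠ P l := fun e => hPN j (e1.trans e.symm)
        rw [if_pos e1, if_pos e2, if_neg q1, if_neg q2] at h
        norm_num at h
      · exact Or.inl ⟨e1, e2⟩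
    · by_cases e2 : N j = N l
      · exact Or.inr ⟨e2, e1⟩
      · exfalso
        rw [if_neg e1, if_neg e2] at h
        split_ifs at h <;> norm_num at h
  let j₁ : {j : ι // j ≠ i₀} := ⟨a₁, h01.symm⟩
  let j₂ : {j : ι // j ≠ i₀} := ⟨a₂, h02.symm⟩
  have hj : j₁ ≠ j₂ := fun e => h12 (congrArg Subtype.val e)
  rcases key j₁ j₂ hj with ⟨hP12, hN12⟩ | ⟨hN12, hP12⟩
  · -- a common positive constituent
    have hall : ∀ j, P j = P j₁ := by
      intro j
      by_cases e1 : j = j₁
      · rw [e1]
      by_cases e2 : j = j₂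
      · rw [e2, hP12]
      rcases key j j₁ e1 with ⟨h, -⟩ | ⟨hN, hP⟩
      · exact h
      rcases key j j₂ e2 with ⟨h, -⟩ | ⟨hN', -⟩
      · exact absurd (h.trans hP12.symm) hP
      · exact absurd (hN.symm.trans hN') hN12
    refine ⟨fun i => if h : i = i₀ then P j₁ else N ⟨i, h⟩, 1,
      fun x => M i₀ x - (if P j₁ = x then 1 else 0), ?_, Or.inl rfl, fun i x => ?_⟩
    · intro i l h
      dsimp only at h
      by_cases hi : i = i₀ <;> by_cases hl : l = i₀
      · rw [hi, hl]
      · rw [dif_pos hi, dif_neg hl] at h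
        exact absurd ((hall _).trans h) (hPN ⟨l, hl⟩)
      · rw [dif_neg hi, dif_pos hl] at h
        exact absurd ((hall _).trans h.symm) (hPN ⟨i, hi⟩)
      · rw [dif_neg hi, dif_neg hl] at h
        by_contra hne
        rcases key ⟨i, hi⟩ ⟨l, hl⟩ (fun e => hne (congrArg Subtype.val e)) with ⟨-, h'⟩ | ⟨-, h'⟩
        · exact h' h
        · exact h' ((hall _).trans (hall _).symm)
    · by_cases hi : i = i₀
      · subst hi; simp
      · simp only [dif_neg hi, one_mul]
        have h : M i₀ x - M i x = _ := hv ⟨i, hi⟩ x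
        rw [hall] at h
        linarith
  · -- a common negative constituent
    have hall : ∀ j, N j = N j₁ := by
      intro j
      by_cases e1 : j = j₁
      · rw [e1]
      by_cases e2 : j = j₂
      · rw [e2, hN12]
      rcases key j j₁ e1 with ⟨hP, hN⟩ | ⟨h, -⟩
      swap
      · exact h
      rcases key j j₂ e2 with ⟨hP', -⟩ | ⟨h, -⟩
      · exact absurd (hP.symm.trans hP') hP12
      · exact absurd (h.trans hN12.symm) hN
    refine ⟨fun i => if h : i = i₀ then N j₁ else P ⟨i, h⟩, -1,
      fun x => M i₀ x + (if N j₁ = x then 1 else 0), ?_, Or.inr rfl, fun i x => ?_⟩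
    · intro i l h
      dsimp only at h
      by_cases hi : i = i₀ <;> by_cases hl : l = i₀
      · rw [hi, hl]
      · rw [dif_pos hi, dif_neg hl] at h
        exact absurd (h.symm.trans (hall _).symm) (hPN ⟨l, hl⟩)
      · rw [dif_neg hi, dif_pos hl] at h
        exact absurd (h.trans (hall _).symm) (hPN ⟨i, hi⟩)
      · rw [dif_neg hi, dif_neg hl] at h
        by_contra hne
        rcases key ⟨i, hi⟩ ⟨l, hl⟩ (fun e => hne (congrArg Subtype.val e)) with ⟨-, h'⟩ | ⟨-, h'⟩
        · exact h' ((hall _).trans (hall _).symm)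
        · exact h' h
    · by_cases hi : i = i₀
      · subst hi; simp; split_ifs <;> ring
      · simp only [dif_neg hi]
        have h : M i₀ x - M i x = _ := hv ⟨i, hi⟩ x
        rw [hall] at h
        linarith

end Cfsg.Agent.ReeCover
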