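import Cfsg.Agent.Lib.Char.Linear
import Cfsg.Agent.Lib.Char.Induced
import Cfsg.Agent.Lib.Char.Virtual
import Cfsg.Agent.Lib.ClassCount.CharSum
import Cfsg.Agent.Lib.ReeCover.Coherent

/-!
# Exceptional characters of an abelian subgroup containing the centralisers of its elements

For an abelian subgroup `A` of order `k` which is the centraliser of each of its non-trivial elements and has
`|N(A)| = n k`, `3 n < k`:

* `CCSub`, `ExcData`
* `exists_excData` : the exceptional characters, their values on `A`, equality of values off `A`, sum of squares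
  of the constant values
* `ExcData.classInner_eq`, `ExcData.sum_exc_sq`
-/

set_option autoImplicit false

namespace Cfsg.Agent.ReeCover

open Cfsg Subgroup
open scoped ComplexConjugate

variable {G : Type*} [Group G]

/-- Abelian, centraliser of each non-trivial element, `n` times smaller than the normaliser. -/
structure CCSub (A : Subgroup G) (n : ℕ) : Prop where
  comm : ∀ a ∈ A, ∀ a' ∈ A, a * a' = a' * a
  cent : ∀ a ∈ A, a ≠ 1 → ∀ g : G, g * a = a * g → g ∈ A
  card_N : Nat.card (normalizer (A : Set G)) = n * Nat.card A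

/-- Not conjugate to a non-trivial element of `A`. -/
def Off (A : Subgroup G) (g : G) : Prop := ∀ h : G, h * g * h⁻¹ ∈ A → g = 1

open Classical in
/-- The exceptional characters of `A`. -/
structure ExcData [Fintype (IrrCharacter G)] (A : Subgroup G) (n t : ℕ) where
  ξ : Fin t → IrrCharacter G
  inj : Function.Injective ξ
  t_three : 3 ≤ t
  card_t : n * t + 1 = Nat.card A
  δ : ℤ
  hδ : δ = 1 ∨ δ = -1
  b : ℤ
  c : IrrCharacter G → ℤ
  val_non : ∀ χ : IrrCharacter G, (∀ i, ξ i ≠ χ) → ∀ a ∈ A, a ≠ 1 → (χ : G → ℂ) a = c χ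
  val_off : ∀ i j (g : G), Off A g → (ξ i : G → ℂ) g = (ξ j : G → ℂ) g
  nonconst : ∀ i (z : ℂ), ∃ a ∈ A, a ≠ 1 ∧ (ξ i : G → ℂ) a ≠ z
  sep : ∀ i j, i ≠ j → ∃ a ∈ A, a ≠ 1 ∧ (ξ i : G → ℂ) a ≠ (ξ j : G → ℂ) a
  sum_non : ∑ χ : IrrCharacter G, (if ∀ i, ξ i ≠ χ then c χ ^ 2 else 0) =
    (n : ℤ) + 2 * (δ * b) - (t : ℤ) * b ^ 2
  congr : ∀ i, ∃ z : ℤ, (ξ i : G → ℂ) 1 = ((b + δ * n + (Nat.card A : ℤ) * z : ℤ) : ℂ)

section duals

variable (A : Subgroup G) [Fintype A]

/-- A linear character as a complex function. -/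
noncomputable def lam (l : ↥A →* ℂˣ) : A → ℂ := fun a => ((l a : ℂˣ) : ℂ)

variable {A}

theorem lam_one_apply (l : ↥A →* ℂˣ) : lam A l 1 = 1 := by simp [lam]

theorem isCharacter_lam (l : ↥A →* ℂˣ) : IsCharacter A (lam A l) :=
  Char.isCharacter_of_hom ((Units.coeHom ℂ).comp l)

theorem lam_isIrr (l : ↥A →* ℂˣ) : IsIrrCharacter A (lam A l) :=
  Char.isIrrCharacter_of_hom ((Units.coeHom ℂ).comp l)

/-- All irreducible characters of an abelian group are linear. -/
noncomputable def dualEquiv (h : ∀ a ∈ A, ∀ a' ∈ A, a * a' = a' * a) :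
    (↥A →* ℂˣ) ≃ IrrCharacter A :=
  (Char.linearCharEquiv A).trans (Equiv.subtypeUnivEquiv fun χ =>
    Char.apply_one_eq_one_of_comm (fun a a' => Subtype.ext (h _ a.2 _ a'.2)) χ)

theorem dualEquiv_apply (h : ∀ a ∈ A, ∀ a' ∈ A, a * a' = a' * a) (l : ↥A →* ℂˣ) :
    (dualEquiv h l : A → ℂ) = lam A l := rfl

theorem classInner_lam [DecidableEq (↥A →* ℂˣ)] (l l' : ↥A →* ℂˣ) :
    classInner (lam A l) (lam A l') = if l = l' then 1 else 0 := by
  by_cases e : l = l'
  · rw [if_pos e, e]; exact Char.classInner_irr_self (lam_isIrr l')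
  · rw [if_neg e]
    refine Char.classInner_irr_of_ne (lam_isIrr l) (lam_isIrr l') fun h => e ?_
    exact MonoidHom.ext fun a => Units.ext (congrFun h a)

theorem conj_lam (l : ↥A →* ℂˣ) (a : A) : conj (lam A l a) = lam A l a⁻¹ := by
  rw [Char.IsCharacter.apply_inv (isCharacter_lam l)]

theorem expand_abelian (h : ∀ a ∈ A, ∀ a' ∈ A, a * a' = a' * a) [Fintype (↥A →* ℂˣ)]
    (f : A → ℂ) (a : A) : f a = ∑ l : ↥A →* ℂˣ, classInner f (lam A l) * lam A l a := by
  classical
  letI := Fintype.ofEquiv _ (dualEquiv h)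
  have hf : IsClassFunction A f := fun x y => by
    rw [show y * x * y⁻¹ = x from by
      rw [Subtype.ext (h _ y.2 _ x.2) (a1 := y * x) (a2 := x * y), mul_inv_cancel_right]]
  rw [congrFun (Char.classFunction_eq_sum hf) a, Finset.sum_apply]
  refine (Fintype.sum_equiv (dualEquiv h) _ _ fun l => ?_).symm
  simp [dualEquiv_apply]

theorem sum_lam (h : ∀ a ∈ A, ∀ a' ∈ A, a * a' = a' * a) [Fintype (↥A →* ℂˣ)]
    {a : A} (ha : a ≠ 1) : ∑ l : ↥A →* ℂˣ, lam A l a = 0 := by
  classical
  letI := Fintype.ofEquiv _ (dualEquiv h)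
  have h2 := Char.sum_degree_mul_apply (G := A) a
  rw [if_neg ha] at h2
  rw [← h2]
  refine Fintype.sum_equiv (dualEquiv h) _ _ fun l => ?_
  rw [dualEquiv_apply, lam_one_apply, one_mul]

theorem card_dual (h : ∀ a ∈ A, ∀ a' ∈ A, a * a' = a' * a) :
    Nat.card (↥A →* ℂˣ) = Nat.card A := by
  rw [Nat.card_congr (dualEquiv h), Char.card_irr_eq_card_conjClasses,
    Char.card_conjClasses_of_comm fun a a' => Subtype.ext (h _ a.2 _ a'.2)]

theorem conj_mem (x : normalizer (A : Set G)) {a : G} (ha : a ∈ A) : (x : G)⁻¹ * a * x ∈ A := by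
  have h := (Subgroup.mem_normalizer_iff.1 ((normalizer (A : Set G)).inv_mem x.2) a).1 ha
  simpa using h

/-- Conjugation of `A` by an element of its normaliser. -/
def conjA (x : normalizer (A : Set G)) : ↥A →* ↥A where
  toFun a := ⟨(x : G)⁻¹ * a * x, conj_mem x a.2⟩
  map_one' := Subtype.ext (by simp)
  map_mul' a b := Subtype.ext (by simp [mul_assoc])

/-- Twist of a linear character. -/
noncomputable def tw (x : normalizer (A : Set G)) (l : ↥A →* ℂˣ) : ↥A →* ℂˣ := l.comp (conjA x)

theorem tw_one (l : ↥A →* ℂˣ) : tw 1 l = l :=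
  MonoidHom.ext fun a => congrArg l (Subtype.ext (by simp [conjA]))

theorem tw_mul (x y : normalizer (A : Set G)) (l : ↥A →* ℂˣ) : tw (x * y) l = tw x (tw y l) :=
  MonoidHom.ext fun a => congrArg l (Subtype.ext (by simp [conjA, mul_assoc]))

theorem tw_trivial (x : normalizer (A : Set G)) : tw x (1 : ↥A →* ℂˣ) = 1 :=
  MonoidHom.ext fun _ => rfl

variable {n : ℕ} (hA : CCSub A n)
include hA

theorem tw_eq_self_iff {l : ↥A →* ℂˣ} (hl : l ≠ 1) (x : normalizer (A : Set G)) :
    tw x l = l ↔ (x : G) ∈ A := by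
  refine ⟨fun h => ?_, fun hx => MonoidHom.ext fun a => congrArg l (Subtype.ext ?_)⟩
  · by_contra hx
    apply hl
    let φ : ↥A →* ↥A :=
      { toFun := fun a => a⁻¹ * conjA x a
        map_one' := by simp
        map_mul' := fun a b => by
          have hc : ∀ u v : A, u * v = v * u := fun u v => Subtype.ext (hA.comm _ u.2 _ v.2)
          rw [map_mul, mul_inv_rev, hc b⁻¹ a⁻¹, mul_assoc, mul_assoc, ← mul_assoc b⁻¹,
            hc b⁻¹ (conjA x a), mul_assoc] }
    have hinj : Function.Injective φ := by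
      refine (injective_iff_map_eq_one φ).2 fun a ha => ?_
      by_contra hne
      refine hx (hA.cent a a.2 (fun e => hne (Subtype.ext e)) x ?_)
      have : conjA x a = a := (inv_mul_eq_one.1 ha).symm
      have h2 : (x : G)⁻¹ * a * x = a := congrArg Subtype.val this
      calc (x : G) * a = (x : G) * ((x : G)⁻¹ * a * x) := by rw [h2]
        _ = _ := by group
    refine MonoidHom.ext fun a => ?_
    obtain ⟨b, rfl⟩ := (Finite.injective_iff_surjective.1 hinj) a
    show l (b⁻¹ * conjA x b) = 1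
    rw [map_mul, map_inv, show l (conjA x b) = l b from congrArg (fun f : ↥A →* ℂˣ => f b) h,
      inv_mul_cancel]
  · show (x : G)⁻¹ * a * x = a
    rw [mul_assoc, hA.comm _ a.2 _ hx, inv_mul_cancel_left]

omit [Fintype A] in
theorem card_pos_N : Nat.card (normalizer (A : Set G)) = n * Nat.card A := hA.card_N

theorem card_tw_eq [Fintype (normalizer (A : Set G))] [DecidableEq (↥A →* ℂˣ)]
    {l μ : ↥A →* ℂˣ} (hl : l ≠ 1) :
    (Finset.univ.filter fun x : normalizer (A : Set G) => tw x l = μ).card =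
      if ∃ x : normalizer (A : Set G), tw x l = μ then Nat.card A else 0 := by
  classical
  by_cases h : ∃ x : normalizer (A : Set G), tw x l = μ
  · rw [if_pos h]
    obtain ⟨x₀, rfl⟩ := h
    rw [Nat.card_eq_fintype_card, ← Finset.card_univ]
    refine (Finset.card_bij (fun (a : A) _ =>
      x₀ * (⟨(a : G), Subgroup.le_normalizer a.2⟩ : normalizer (A : Set G))) ?_ ?_ ?_).symm
    · intro a _
      refine Finset.mem_filter.2 ⟨Finset.mem_univ _, ?_⟩
      rw [tw_mul, (tw_eq_self_iff hA hl _).2 a.2]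
    · intro a _ b _ e
      have e' := congrArg Subtype.val (mul_left_cancel e)
      exact Subtype.ext e'
    · intro y hy
      have h1 := (Finset.mem_filter.1 hy).2
      have h2 : tw (x₀⁻¹ * y) l = l := by rw [tw_mul, h1, ← tw_mul, inv_mul_cancel, tw_one]
      refine ⟨⟨_, (tw_eq_self_iff hA hl _).1 h2⟩, Finset.mem_univ _, ?_⟩
      exact mul_inv_cancel_left x₀ y
  · rw [if_neg h, Finset.card_eq_zero, Finset.filter_eq_empty_iff]
    exact fun x _ e => h ⟨x, e⟩

variable [Fintype G]

open Classical in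
theorem res_ind [Fintype (normalizer (A : Set G))] (l : ↥A →* ℂˣ) (a : A) :
    indFun A (lam A l) (a : G) = (Nat.card A : ℂ)⁻¹ * ∑ x : normalizer (A : Set G), lam A (tw x l) a +
      (if a = 1 then ((A.index : ℂ) - (n : ℂ)) else 0) := by
  classical
  have hk : (Nat.card A : ℂ) ≠ 0 := Nat.cast_ne_zero.2 Nat.card_pos.ne'
  by_cases ha : a = 1
  · subst ha
    rw [if_pos rfl, OneMemClass.coe_one, Char.indFun_one_apply, lam_one_apply]
    simp only [lam_one_apply, Finset.sum_const, Finset.card_univ, nsmul_eq_mul, mul_one]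
    rw [← Nat.card_eq_fintype_card, hA.card_N]
    push_cast
    field_simp
    ring
  · rw [if_neg ha, add_zero, indFun]
    congr 1
    rw [← Finset.sum_filter_of_ne (p := fun x => x ∈ normalizer (A : Set G))]
    · rw [Finset.sum_subtype (p := (· ∈ normalizer (A : Set G))) _ (fun x => by simp)
        (fun x => extendByZero A (lam A l) (x⁻¹ * a * x))]
      refine Finset.sum_congr rfl fun x _ => ?_
      rw [Char.extendByZero_mem A _ (conj_mem x a.2)]
      rfl
    · intro x _ hx
      by_contra hN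
      apply hx
      apply Char.extendByZero_not_mem
      intro hm
      have h1 : x⁻¹ * (a : G) * x ≠ 1 := by
        intro e
        apply ha
        apply Subtype.ext
        show (a : G) = 1
        calc (a : G) = x * (x⁻¹ * a * x) * x⁻¹ := by group
          _ = 1 := by rw [e]; group
      refine hN (Subgroup.mem_normalizer_iff.2 fun g => ⟨fun hg => ?_, fun hg => ?_⟩)
      · refine hA.cent a a.2 (fun e => ha (Subtype.ext e)) _ ?_
        have hc := hA.comm _ hg _ hm
        calc x * g * x⁻¹ * (a : G) = x * (g * (x⁻¹ * a * x)) * x⁻¹ := by group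
          _ = x * (x⁻¹ * a * x * g) * x⁻¹ := by rw [hc]
          _ = a * (x * g * x⁻¹) := by group
      · refine hA.cent _ hm h1 _ ?_
        have hc := hA.comm _ hg _ a.2
        calc g * (x⁻¹ * (a : G) * x) = x⁻¹ * (x * g * x⁻¹ * a) * x := by group
          _ = x⁻¹ * (a * (x * g * x⁻¹)) * x := by rw [hc]
          _ = _ := by group

theorem inner_ind [Fintype (normalizer (A : Set G))] [DecidableEq (↥A →* ℂˣ)]
    {l : ↥A →* ℂˣ} (μ : ↥A →* ℂˣ) (hl : l ≠ 1) :
    classInner (indFun A (lam A μ)) (indFun A (lam A l)) =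
      ((A.index : ℂ) - n) / (Nat.card A : ℂ) + if ∃ x : normalizer (A : Set G), tw x l = μ then 1 else 0 := by
  classical
  have hk : (Nat.card A : ℂ) ≠ 0 := Nat.cast_ne_zero.2 Nat.card_pos.ne'
  rw [Char.frobenius_reciprocity A (lam A μ) (Char.indFun_isClassFunction A (lam A l))]
  have h : (fun a : A => indFun A (lam A l) (a : G)) =
      (Nat.card A : ℂ)⁻¹ • (∑ x : normalizer (A : Set G), lam A (tw x l)) +
        fun a : A => if a = 1 then ((A.index : ℂ) - (n : ℂ)) else 0 := by
    funext a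
    rw [res_ind hA l a]
    simp
  rw [h, Char.classInner_add_right, Char.classInner_smul_right, Char.classInner_sum_right,
    Finset.sum_congr rfl fun x _ => classInner_lam μ (tw x l), add_comm]
  congr 1
  · rw [classInner, Finset.sum_eq_single (1 : A)]
    · rw [if_pos rfl, lam_one_apply, one_mul, map_sub, map_natCast, map_natCast]
      field_simp
    · intro b _ hb
      rw [if_neg hb, map_zero, mul_zero]
    · exact fun h => absurd (Finset.mem_univ _) h
  · have e := card_tw_eq hA (l := l) (μ := μ) hl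
    rw [Finset.sum_boole, show (Finset.univ.filter fun x : normalizer (A : Set G) => μ = tw x l) =
      Finset.univ.filter fun x : normalizer (A : Set G) => tw x l = μ from
        Finset.filter_congr fun x _ => eq_comm, e, map_inv₀, map_natCast]
    split_ifs <;> simp [hk]

theorem inner_one [Fintype (normalizer (A : Set G))] [DecidableEq (↥A →* ℂˣ)] :
    classInner (indFun A (lam A 1)) (indFun A (lam A 1)) =
      ((A.index : ℂ) - n) / (Nat.card A : ℂ) + n := by
  classical
  have hk : (Nat.card A : ℂ) ≠ 0 := Nat.cast_ne_zero.2 Nat.card_pos.ne'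
  rw [Char.frobenius_reciprocity A (lam A 1) (Char.indFun_isClassFunction A (lam A 1))]
  have h : (fun a : A => indFun A (lam A 1) (a : G)) =
      (Nat.card A : ℂ)⁻¹ • (∑ x : normalizer (A : Set G), lam A (tw x 1)) +
        fun a : A => if a = 1 then ((A.index : ℂ) - (n : ℂ)) else 0 := by
    funext a
    rw [res_ind hA 1 a]
    simp
  rw [h, Char.classInner_add_right, Char.classInner_smul_right, Char.classInner_sum_right,
    Finset.sum_congr rfl fun x _ => classInner_lam 1 (tw x 1), add_comm]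
  congr 1
  · rw [classInner, Finset.sum_eq_single (1 : A)]
    · rw [if_pos rfl, lam_one_apply, one_mul, map_sub, map_natCast, map_natCast]
      field_simp
    · intro b _ hb
      rw [if_neg hb, map_zero, mul_zero]
    · exact fun h => absurd (Finset.mem_univ _) h
  · simp only [tw_trivial, if_true, Finset.sum_const, Finset.card_univ, nsmul_eq_mul, mul_one]
    rw [← Nat.card_eq_fintype_card, hA.card_N, map_inv₀, map_natCast]
    push_cast
    field_simp

end duals

section build

open Classical in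
theorem sum_range_split {X M : Type*} [Fintype X] [AddCommMonoid M] {t : ℕ} {ξ : Fin t → X}
    (hξ : Function.Injective ξ) (f : X → M) :
    ∑ χ, f χ = ∑ χ, (if ∀ i, ξ i ≠ χ then f χ else 0) + ∑ i, f (ξ i) := by
  have h : ∑ i, f (ξ i) = ∑ χ, (if ∀ i, ξ i ≠ χ then 0 else f χ) := by
    rw [← Finset.sum_image (f := f) (s := Finset.univ) (g := ξ) (fun x _ y _ h => hξ h),
      ← Finset.sum_subset (Finset.subset_univ (Finset.univ.image ξ))]
    · refine Finset.sum_congr rfl fun χ hχ => ?_
      rw [if_neg]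
      simpa using hχ
    · intro χ _ hχ
      rw [if_pos]
      simpa using hχ
  rw [h, ← Finset.sum_add_distrib]
  refine Finset.sum_congr rfl fun χ _ => ?_
  split_ifs <;> simp

variable [Fintype G]

theorem card_nontriv {A : Subgroup G} [Fintype A] (hA : ∀ a ∈ A, ∀ a' ∈ A, a * a' = a' * a)
    [Fintype (↥A →* ℂˣ)] [Fintype {l : ↥A →* ℂˣ // l ≠ 1}] :
    (Fintype.card {l : ↥A →* ℂˣ // l ≠ 1} : ℂ) = (Nat.card A : ℂ) - 1 := by
  classical
  have h : Fintype.card {l : ↥A →* ℂˣ // l ≠ 1} = Nat.card A - 1 := by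
    rw [← card_dual hA, Nat.card_eq_fintype_card,
      ← Fintype.card_congr (Equiv.refl _), Fintype.card_subtype_compl, Fintype.card_subtype_eq]
  rw [h, Nat.cast_sub Nat.card_pos, Nat.cast_one]

theorem sum_dual_split {A : Subgroup G} [Fintype (↥A →* ℂˣ)] [Fintype {l : ↥A →* ℂˣ // l ≠ 1}]
    (f : (↥A →* ℂˣ) → ℂ) : ∑ l, f l = f 1 + ∑ l : {l : ↥A →* ℂˣ // l ≠ 1}, f l.1 := by
  classical
  rw [Fintype.sum_eq_add_sum_compl (1 : ↥A →* ℂˣ)]
  congr 1
  exact Finset.sum_subtype _ (fun l => by simp) f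

theorem inner_lam_sum {A : Subgroup G} [Fintype A] {ι : Type*} [DecidableEq ι] (f : ι → (↥A →* ℂˣ))
    (hf : Function.Injective f) (S S' : Finset ι) :
    classInner (fun a => ∑ l ∈ S, lam A (f l) a) (fun a => ∑ l ∈ S', lam A (f l) a) =
      ((S ∩ S').card : ℂ) := by
  classical
  have e : ∀ T : Finset ι, (fun a => ∑ l ∈ T, lam A (f l) a) = ∑ l ∈ T, lam A (f l) := fun T =>
    funext fun a => (Finset.sum_apply a _ _).symm
  rw [e, e, Char.classInner_sum_left]
  simp only [Char.classInner_sum_right, classInner_lam, hf.eq_iff, Finset.sum_ite_eq]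
  rw [← Finset.sum_filter, Finset.sum_const, nsmul_eq_mul, mul_one, Finset.filter_mem_eq_inter]

theorem not_const {A : Subgroup G} [Fintype A] {n : ℕ} (hn : 0 < n) (hk : n + 2 ≤ Nat.card A)
    {η : A → ℂ} (h1 : η 1 = n) (hsum : ∑ a, η a = 0) (hsq : classInner η η = n) {w : ℂ}
    (hc : ∀ a : A, a ≠ 1 → η a = w) : False := by
  classical
  have hk0 : (Nat.card A : ℂ) ≠ 0 := Nat.cast_ne_zero.2 Nat.card_pos.ne'
  have hcardc : ((({1} : Finset A)ᶜ.card : ℕ) : ℂ) = (Nat.card A : ℂ) - 1 := by
    rw [Finset.card_compl, Finset.card_singleton, Nat.card_eq_fintype_card,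
      Nat.cast_sub Fintype.card_pos]
    simp
  rw [Fintype.sum_eq_add_sum_compl (1 : A), h1, Finset.sum_congr rfl
    (fun a ha => hc a (by simpa using ha)), Finset.sum_const, nsmul_eq_mul, hcardc] at hsum
  rw [classInner, Fintype.sum_eq_add_sum_compl (1 : A), h1, Finset.sum_congr rfl
    (fun a ha => by rw [hc a (by simpa using ha)]), Finset.sum_const, nsmul_eq_mul, map_natCast,
    hcardc] at hsq
  field_simp at hsq
  have hconj : (n : ℂ) + ((Nat.card A : ℂ) - 1) * conj w = 0 := by
    have h := congrArg conj hsum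
    simpa using h
  have h5 : (n : ℂ) * (Nat.card A : ℂ) * ((n : ℂ) - ((Nat.card A : ℂ) - 1)) = 0 := by
    linear_combination ((Nat.card A : ℂ) - 1) * hsq - (((Nat.card A : ℂ) - 1) * conj w) * hsum +
      (n : ℂ) * hconj
  rcases mul_eq_zero.1 h5 with h6 | h6
  · exact mul_ne_zero (Nat.cast_ne_zero.2 hn.ne') hk0 h6
  · have h7 : ((n + 1 : ℕ) : ℂ) = (Nat.card A : ℂ) := by push_cast; linear_combination h6
    have := Nat.cast_injective h7
    omega

theorem exists_orbits {A : Subgroup G} [Fintype A] {n : ℕ} (hA : CCSub A n) (hk : 3 * n + 1 ≤ Nat.card A) (hn : 0 < n) :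
    ∃ (t : ℕ) (cls : {l : ↥A →* ℂˣ // l ≠ 1} → Fin t) (rep : Fin t → {l : ↥A →* ℂˣ // l ≠ 1}),
      3 ≤ t ∧ n * t + 1 = Nat.card A ∧ (∀ i, cls (rep i) = i) ∧
      (∀ l l', cls l = cls l' ↔ ∃ x : normalizer (A : Set G), tw x l.1 = l'.1) ∧
      ∀ i, Nat.card {l // cls l = i} = n := by
  classical
  haveI := Fintype.ofFinite (normalizer (A : Set G))
  haveI : Finite (↥A →* ℂˣ) := Finite.of_equiv _ (dualEquiv hA.comm).symm
  haveI := Fintype.ofFinite (↥A →* ℂˣ)
  -- the orbits
  let s : Setoid {l : ↥A →* ℂˣ // l ≠ 1} :=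
    { r := fun l l' => ∃ x : normalizer (A : Set G), tw x l.1 = l'.1
      iseqv :=
        { refl := fun l => ⟨1, tw_one _⟩
          symm := fun {l l'} ⟨x, hx⟩ => ⟨x⁻¹, by rw [← hx, ← tw_mul, inv_mul_cancel, tw_one]⟩
          trans := fun {l l' l''} ⟨x, hx⟩ ⟨y, hy⟩ => ⟨y * x, by rw [tw_mul, hx, hy]⟩ } }
  haveI : Fintype (Quotient s) := Fintype.ofFinite _
  set t := Fintype.card (Quotient s) with ht
  let e := Fintype.equivFin (Quotient s)
  let cls : {l : ↥A →* ℂˣ // l ≠ 1} → Fin t := fun l => e ⟦l⟧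
  have hcls : ∀ l l', cls l = cls l' ↔ ∃ x : normalizer (A : Set G), tw x l.1 = l'.1 := fun l l' =>
    e.injective.eq_iff.trans Quotient.eq
  let rep : Fin t → {l : ↥A →* ℂˣ // l ≠ 1} := fun i => (e.symm i).out
  have hrep : ∀ i, cls (rep i) = i := fun i => by
    show e ⟦(e.symm i).out⟧ = i
    rw [Quotient.out_eq, e.apply_symm_apply]
  have hfib : ∀ i, (Finset.univ.filter fun l => cls l = i).card = n := by
    intro i
    have h1 : Nat.card (normalizer (A : Set G)) =
        ∑ l : {l : ↥A →* ℂˣ // l ≠ 1}, if cls l = i then Nat.card A else 0 := by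
      rw [Nat.card_eq_fintype_card, ← Finset.card_univ,
        Finset.card_eq_sum_card_fiberwise (f := fun x => (⟨tw x (rep i).1, fun h => (rep i).2 (by
          rw [← tw_one (rep i).1, ← inv_mul_cancel x, tw_mul, h, tw_trivial])⟩ :
            {l : ↥A →* ℂˣ // l ≠ 1})) (t := Finset.univ) (fun _ _ => Finset.mem_univ _)]
      refine Finset.sum_congr rfl fun l _ => ?_
      have h3 := card_tw_eq hA (l := (rep i).1) (μ := l.1) (rep i).2
      have h4 : (cls l = i) ↔ ∃ x : normalizer (A : Set G), tw x (rep i).1 = l.1 := by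
        rw [← hcls, hrep, eq_comm]
      simp only [h4, ← h3, Subtype.ext_iff]
    rw [← Finset.sum_filter, Finset.sum_const, smul_eq_mul, hA.card_N] at h1
    exact (Nat.eq_of_mul_eq_mul_right Nat.card_pos h1).symm
  have hcard : n * t + 1 = Nat.card A := by
    have h1 : Fintype.card {l : ↥A →* ℂˣ // l ≠ 1} = n * t := by
      rw [← Finset.card_univ, Finset.card_eq_sum_card_fiberwise (f := cls) (t := Finset.univ)
        (fun _ _ => Finset.mem_univ _), Finset.sum_congr rfl fun i _ => hfib i, Finset.sum_const,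
        Finset.card_univ, Fintype.card_fin, smul_eq_mul, mul_comm]
    rw [← card_dual hA.comm, Nat.card_eq_fintype_card, ← h1, Fintype.card_subtype_compl,
      Fintype.card_subtype_eq, Nat.sub_add_cancel Fintype.card_pos]
  have ht3 : 3 ≤ t := by
    refine Nat.le_of_mul_le_mul_left ?_ hn
    rw [mul_comm n 3]
    omega
  exact ⟨t, cls, rep, ht3, hcard, hrep, hcls, fun i => by
    rw [Nat.card_eq_fintype_card, Fintype.card_subtype, hfib]⟩

set_option maxHeartbeats 1000000 in
theorem exists_excData [Fintype (IrrCharacter G)] {A : Subgroup G} {n : ℕ} (hA : CCSub A n)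
    (hk : 3 * n + 1 ≤ Nat.card A) (hn : 0 < n) : ∃ t, Nonempty (ExcData A n t) := by
  classical
  haveI := Fintype.ofFinite A
  haveI := Fintype.ofFinite (normalizer (A : Set G))
  haveI : Finite (↥A →* ℂˣ) := Finite.of_equiv _ (dualEquiv hA.comm).symm
  haveI := Fintype.ofFinite (↥A →* ℂˣ)
  obtain ⟨t, cls, rep, ht3, hcard, hrep, hcls, hfib'⟩ := exists_orbits hA hk hn
  have hfib : ∀ i, (Finset.univ.filter fun l => cls l = i).card = n := fun i => by
    rw [← Fintype.card_subtype, ← Nat.card_eq_fintype_card, hfib']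
  -- the multiplicities
  have hnat : ∀ (l : ↥A →* ℂˣ) (χ : IrrCharacter G),
      ∃ m : ℕ, classInner (indFun A (lam A l)) (χ : G → ℂ) = m := fun l χ =>
    Char.IsCharacter.classInner_nat (Char.IsCharacter.indFun A (isCharacter_lam l))
      (Char.IsIrrCharacter.isCharacter χ.2)
  choose mu hmu using hnat
  have hgram : ∀ l l' : ↥A →* ℂˣ, classInner (indFun A (lam A l)) (indFun A (lam A l')) =
      (((∑ χ : IrrCharacter G, (mu l χ : ℤ) * (mu l' χ : ℤ)) : ℤ) : ℂ) := by
    intro l l'
    rw [Char.classInner_eq_sum (Char.indFun_isClassFunction A (lam A l))]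
    push_cast
    exact Finset.sum_congr rfl fun χ _ => by rw [hmu, hmu, map_natCast]
  obtain ⟨C0, hC0, hC0'⟩ : ∃ C0 : ℤ, (∀ μ l : ↥A →* ℂˣ, l ≠ 1 →
      (∑ χ : IrrCharacter G, (mu μ χ : ℤ) * (mu l χ : ℤ)) =
        C0 + if ∃ x : normalizer (A : Set G), tw x l = μ then 1 else 0) ∧
      (∑ χ : IrrCharacter G, (mu 1 χ : ℤ) * (mu 1 χ : ℤ)) = C0 + n := by
    refine ⟨(∑ χ : IrrCharacter G, (mu 1 χ : ℤ) * (mu 1 χ : ℤ)) - n, fun μ l hl => ?_, by ring⟩
    have h1 := inner_ind hA μ hl
    have h2 := inner_one hA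
    rw [hgram] at h1 h2
    have h3 : ((∑ χ : IrrCharacter G, (mu μ χ : ℤ) * (mu l χ : ℤ) : ℤ) : ℂ) =
        (((∑ χ : IrrCharacter G, (mu 1 χ : ℤ) * (mu 1 χ : ℤ)) - n +
          if ∃ x : normalizer (A : Set G), tw x l = μ then 1 else 0 : ℤ) : ℂ) := by
      rw [h1]
      push_cast at h2 ⊢
      rw [h2]
      split_ifs <;> ring
    exact Int.cast_injective h3
  have hsame : ∀ l l' : {l : ↥A →* ℂˣ // l ≠ 1}, cls l = cls l' → ∀ χ, mu l.1 χ = mu l'.1 χ := by
    intro l l' h χ
    obtain ⟨x, hx⟩ := (hcls l l').1 h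
    have hind : ∀ g, indFun A (lam A l'.1) g = indFun A (lam A l.1) g := by
      intro g
      simp only [indFun]
      congr 1
      refine Fintype.sum_equiv (Equiv.mulRight (x : G)) _ _ fun y => ?_
      rw [Equiv.coe_mulRight, show (y * (x : G))⁻¹ * g * (y * x) = (x : G)⁻¹ * (y⁻¹ * g * y) * x by group]
      by_cases hm : y⁻¹ * g * y ∈ A
      · rw [Char.extendByZero_mem A _ hm, Char.extendByZero_mem A _ (conj_mem x hm), ← hx]
        rfl
      · rw [Char.extendByZero_not_mem A _ hm, Char.extendByZero_not_mem A _ ?_]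
        intro h
        apply hm
        have h' := (Subgroup.mem_normalizer_iff.1 x.2 _).1 h
        simpa [mul_assoc] using h'
    have h1 := hmu l'.1 χ
    rw [funext hind, hmu l.1 χ] at h1
    exact_mod_cast h1
  choose d hd0 hd1 hd2 using fun χ : IrrCharacter G => ClassCount.exists_degree_eq χ
  let M : Fin t → IrrCharacter G → ℤ := fun i χ => (mu (rep i).1 χ : ℤ)
  have hM : ∀ i j, ∑ χ, M i χ * M j χ = C0 + if i = j then 1 else 0 := by
    intro i j
    rw [hC0 _ _ (rep j).2]
    congr 1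
    have : (∃ x : normalizer (A : Set G), tw x (rep j).1 = (rep i).1) ↔ i = j := by
      rw [← hcls, hrep, hrep, eq_comm]
    simp only [this]
  have hone : ∀ i, ∑ χ, (mu 1 χ : ℤ) * M i χ = C0 := by
    intro i
    rw [hC0 _ _ (rep i).2, if_neg, add_zero]
    rintro ⟨x, hx⟩
    exact (rep i).2 (by rw [← tw_one (rep i).1, ← inv_mul_cancel x, tw_mul, hx, tw_trivial])
  have hexp : ∀ (l : ↥A →* ℂˣ) (g : G),
      indFun A (lam A l) g = ∑ χ : IrrCharacter G, (mu l χ : ℂ) * (χ : G → ℂ) g := by
    intro l g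
    conv_lhs => rw [Char.classFunction_eq_sum (Char.indFun_isClassFunction A (lam A l))]
    simp [hmu]
  have hdeg : ∀ i j, ∑ χ, (M i χ - M j χ) * (d χ : ℤ) = 0 := by
    intro i j
    have h1 : ((∑ χ, (M i χ - M j χ) * (d χ : ℤ) : ℤ) : ℂ) = 0 := by
      have h2 := hexp (rep i).1 1
      have h3 := hexp (rep j).1 1
      rw [Char.indFun_one_apply, lam_one_apply, mul_one] at h2 h3
      push_cast
      simp only [sub_mul, Finset.sum_sub_distrib, M, Int.cast_natCast, ← hd1]
      rw [← h2, ← h3, sub_self]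
    exact_mod_cast h1
  obtain ⟨ξ, δ, c, hξ, hδ, hMc⟩ := exists_coherent (X := IrrCharacter G) (ι := Fin t)
    (by rwa [Fintype.card_fin]) (fun χ => (d χ : ℤ)) (fun χ => by exact_mod_cast hd0 χ) M hdeg
    (fun i j hij => by
      rw [show ∑ χ, (M i χ - M j χ) ^ 2 = ∑ χ, M i χ * M i χ + ∑ χ, M j χ * M j χ -
          2 * ∑ χ, M i χ * M j χ by
        rw [Finset.mul_sum, ← Finset.sum_add_distrib, ← Finset.sum_sub_distrib]
        exact Finset.sum_congr rfl fun χ _ => by ring]
      rw [hM, hM, hM, if_pos rfl, if_pos rfl, if_neg hij]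
      ring)
    (fun i j l hij hil hjl => by
      simp only [sub_mul, mul_sub, Finset.sum_sub_distrib, hM]
      simp only [if_true, if_neg hil, if_neg (Ne.symm hij), if_neg hjl]
      ring)
  have hδ2 : δ * δ = 1 := by rcases hδ with rfl | rfl <;> norm_num
  -- constants
  let a0 : IrrCharacter G → ℤ := fun χ => (mu 1 χ : ℤ)
  let i0 : Fin t := ⟨0, by omega⟩
  have hA0 : ∀ i, a0 (ξ i) = a0 (ξ i0) := by
    intro i
    have h1 := hone i
    rw [← hone i0] at h1
    simp only [hMc, mul_add, Finset.sum_add_distrib, mul_ite, mul_one, mul_zero,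
      Finset.sum_ite_eq, Finset.mem_univ, if_true] at h1
    rcases hδ with rfl | rfl <;> simp only [a0] <;> linarith
  have hcc : ∀ i j, i ≠ j → (∑ χ, c χ * c χ) + δ * (c (ξ i) + c (ξ j)) = C0 := by
    intro i j hij
    have h1 := hM i j
    rw [if_neg hij, add_zero] at h1
    rw [← h1]
    simp only [hMc, mul_add, add_mul, Finset.sum_add_distrib, mul_ite, ite_mul, mul_one, mul_zero,
      zero_mul, Finset.sum_ite_eq, Finset.mem_univ, if_true]
    have e1 : ξ j ≠ ξ i := fun h => hij (hξ h).symm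
    simp only [e1, e1.symm, if_false]
    ring
  have hc0 : ∀ i, c (ξ i) = c (ξ i0) := by
    intro i
    by_cases hi : i = i0
    · rw [hi]
    obtain ⟨l, hl⟩ : ∃ l, l ∉ ({i, i0} : Finset (Fin t)) := by
      by_contra h
      push_neg at h
      have hsub : (Finset.univ : Finset (Fin t)) ⊆ {i, i0} := fun l _ => h l
      have := Finset.card_le_card hsub
      rw [Finset.card_pair hi, Finset.card_univ, Fintype.card_fin] at this
      omega
    simp only [Finset.mem_insert, Finset.mem_singleton, not_or] at hl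
    have h1 := hcc i l (Ne.symm hl.1)
    rw [← hcc i0 l (Ne.symm hl.2)] at h1
    rcases hδ with rfl | rfl <;> linarith
  set b := a0 (ξ i0) - c (ξ i0) with hb
  have hbi : ∀ i, a0 (ξ i) - c (ξ i) = b := fun i => by rw [hA0 i, hc0 i, hb]
  -- values
  let η : Fin t → A → ℂ := fun i a =>
    ∑ l ∈ Finset.univ.filter (fun l : {l : ↥A →* ℂˣ // l ≠ 1} => cls l = i), lam A l.1 a
  have hval : ∀ (χ : IrrCharacter G) (a : A), (χ : G → ℂ) a =
      (a0 χ : ℂ) + (c χ : ℂ) * (∑ l : {l : ↥A →* ℂˣ // l ≠ 1}, lam A l.1 a) +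
        (δ : ℂ) * ∑ i, if ξ i = χ then η i a else 0 := by
    intro χ a
    have hres : ∀ l, classInner (fun a : A => (χ : G → ℂ) a) (lam A l) = (mu l χ : ℂ) := fun l => by
      rw [← Char.frobenius_reciprocity' A (lam A l) (Char.IsIrrCharacter.isClassFunction χ.2),
        ← Char.classInner_conj_symm, hmu, map_natCast]
    rw [expand_abelian hA.comm (fun a : A => (χ : G → ℂ) a) a]
    simp only [hres]
    rw [sum_dual_split, add_assoc]
    congr 1
    · simp [lam, a0]
    · have : ∀ l : {l : ↥A →* ℂˣ // l ≠ 1}, (mu l.1 χ : ℂ) =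
          (c χ : ℂ) + (δ : ℂ) * (if ξ (cls l) = χ then 1 else 0) := by
        intro l
        have h := hMc (cls l) χ
        simp only [M] at h
        rw [hsame (rep (cls l)) l (hrep _) χ] at h
        have h' := congrArg (fun z : ℤ => (z : ℂ)) h
        push_cast at h'
        rw [h']
      simp only [this, add_mul, Finset.sum_add_distrib, ← Finset.mul_sum, mul_assoc]
      congr 2
      simp only [η, ← Finset.sum_filter, ite_mul, one_mul, zero_mul]
      rw [← Finset.sum_fiberwise_of_maps_to (g := cls) (t := Finset.univ.filter fun i => ξ i = χ)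
        (fun l hl => Finset.mem_filter.2 ⟨Finset.mem_univ _, (Finset.mem_filter.1 hl).2⟩)]
      refine Finset.sum_congr rfl fun i hi => Finset.sum_congr ?_ fun l _ => rfl
      ext l
      simp only [Finset.mem_filter, Finset.mem_univ, true_and] at hi ⊢
      exact ⟨fun h => h.2, fun h => ⟨by rw [h]; exact hi, h⟩⟩
  have hsum1 : ∀ a : A, a ≠ 1 → ∑ l : {l : ↥A →* ℂˣ // l ≠ 1}, lam A l.1 a = -1 := by
    intro a ha
    have h := sum_lam hA.comm ha
    rw [sum_dual_split, show lam A 1 a = 1 from by simp [lam]] at h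
    linear_combination h
  have hexc : ∀ i (a : A), a ≠ 1 → (ξ i : G → ℂ) a = (b : ℂ) + (δ : ℂ) * η i a := by
    intro i a ha
    rw [hval, hsum1 a ha, ← hbi i, Finset.sum_eq_single i (fun j _ hj => if_neg fun h => hj (hξ h))
      (fun h => absurd (Finset.mem_univ _) h), if_pos rfl]
    push_cast
    ring
  have horth : ∀ i j, classInner (η i) (η j) = if i = j then (n : ℂ) else 0 := by
    intro i j
    simp only [η]
    rw [inner_lam_sum Subtype.val Subtype.val_injective]
    by_cases hij : i = j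
    · subst hij
      rw [if_pos rfl, Finset.inter_self, hfib]
    · rw [if_neg hij, Nat.cast_eq_zero, Finset.card_eq_zero, ← Finset.filter_and,
        Finset.filter_eq_empty_iff]
      exact fun l _ h => hij (h.1.symm.trans h.2)
  have hη1 : ∀ i, η i 1 = n := fun i => by simp [η, lam_one_apply, hfib]
  have hk0 : (Nat.card A : ℂ) ≠ 0 := Nat.cast_ne_zero.2 Nat.card_pos.ne'
  refine ⟨t, ⟨{ ξ := ξ, inj := hξ, t_three := ht3, card_t := hcard, δ := δ, hδ := hδ, b := b
                c := fun χ => a0 χ - c χ, val_non := ?_, val_off := ?_, nonconst := ?_, sep := ?_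
                sum_non := ?_, congr := ?_ }⟩⟩
  · intro χ hχ a ha ha1
    have h := hval χ ⟨a, ha⟩
    rw [hsum1 ⟨a, ha⟩ (fun e => ha1 (congrArg Subtype.val e)),
      Finset.sum_eq_zero (fun i _ => if_neg (hχ i))] at h
    rw [h]
    push_cast
    ring
  · intro i j g hg
    have hoff : indFun A (lam A (rep i).1) g = indFun A (lam A (rep j).1) g := by
      simp only [indFun]
      congr 1
      refine Finset.sum_congr rfl fun y _ => ?_
      by_cases hm : y⁻¹ * g * y ∈ A
      · have hg1 : g = 1 := hg y⁻¹ (by simpa using hm)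
        subst hg1
        rw [Char.extendByZero_mem A _ hm, Char.extendByZero_mem A _ hm]
        have : (⟨y⁻¹ * 1 * y, hm⟩ : A) = 1 := Subtype.ext (by simp)
        rw [this, lam_one_apply, lam_one_apply]
      · rw [Char.extendByZero_not_mem A _ hm, Char.extendByZero_not_mem A _ hm]
    rw [hexp, hexp] at hoff
    have hMi : ∀ i (χ : IrrCharacter G), (mu (rep i).1 χ : ℂ) =
        (c χ : ℂ) + (δ : ℂ) * (if ξ i = χ then 1 else 0) := by
      intro i χ
      have h' := congrArg (fun z : ℤ => (z : ℂ)) (hMc i χ)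
      simp only [M] at h'
      push_cast at h'
      rw [h']
    simp only [hMi, add_mul, Finset.sum_add_distrib, mul_assoc, ite_mul, one_mul, zero_mul,
      ← Finset.mul_sum, Finset.sum_ite_eq, Finset.mem_univ, if_true] at hoff
    exact mul_left_cancel₀ (Int.cast_ne_zero.2 (by rcases hδ with rfl | rfl <;> norm_num))
      (add_left_cancel hoff)
  · intro i z
    by_contra hall
    push_neg at hall
    set w : ℂ := (δ : ℂ) * (z - b) with hw
    have hc : ∀ a : A, a ≠ 1 → η i a = w := by
      intro a ha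
      have h := hexc i a ha
      rw [hall a a.2 (fun e => ha (Subtype.ext e))] at h
      have hd2' : (δ : ℂ) * δ = 1 := by exact_mod_cast hδ2
      rw [hw, h]
      linear_combination -(η i a) * hd2'
    have hsumη : ∑ a : A, η i a = 0 := by
      simp only [η]
      rw [Finset.sum_comm]
      refine Finset.sum_eq_zero fun l _ => ?_
      have h := classInner_lam l.1 (1 : ↥A →* ℂˣ)
      rw [if_neg l.2, classInner] at h
      simpa [lam, hk0] using h
    exact not_const hn (by omega) (hη1 i) hsumη (by rw [horth, if_pos rfl]) hc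
  · intro i j hij
    by_contra hall
    push_neg at hall
    have he : η i = η j := by
      funext a
      by_cases ha : a = 1
      · rw [ha, hη1, hη1]
      have h := hall a a.2 (fun e => ha (Subtype.ext e))
      rw [hexc i a ha, hexc j a ha] at h
      exact mul_left_cancel₀ (Int.cast_ne_zero.2 (by rcases hδ with rfl | rfl <;> norm_num))
        (add_left_cancel h)
    have h1 := horth i i
    have h2 := horth i j
    rw [if_pos rfl] at h1
    rw [if_neg hij, ← he, h1] at h2
    exact hn.ne' (by exact_mod_cast h2)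
  · have hii : ∀ i, (if ∀ j, ξ j ≠ ξ i then (a0 (ξ i) - c (ξ i)) ^ 2 else 0) = (0 : ℤ) :=
      fun i => if_neg fun h => h i rfl
    have hsplit : ∑ χ, (a0 χ - c χ) ^ 2 =
        ∑ χ, (if ∀ i, ξ i ≠ χ then (a0 χ - c χ) ^ 2 else 0) + (t : ℤ) * b ^ 2 := by
      rw [sum_range_split hξ]
      simp [hbi]
      refine Finset.sum_congr rfl fun χ _ => ?_
      by_cases hh : ∀ i, ξ i ≠ χ <;> simp [hh]
    have h1 : ∑ χ, a0 χ * a0 χ = C0 + n := hC0'
    have h2 : (∑ χ, a0 χ * c χ) + δ * a0 (ξ i0) = C0 := by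
      rw [← hone i0]
      simp only [hMc, mul_add, Finset.sum_add_distrib, mul_ite, mul_one, mul_zero,
        Finset.sum_ite_eq, Finset.mem_univ, if_true]
      simp only [a0]
      ring
    obtain ⟨i1, hi1⟩ : ∃ i1 : Fin t, i1 ≠ i0 := ⟨⟨1, by omega⟩, by simp [i0, Fin.ext_iff]⟩
    have h3 := hcc i0 i1 (Ne.symm hi1)
    rw [hc0 i1] at h3
    have h4 : ∑ χ, (a0 χ - c χ) ^ 2 =
        ∑ χ, a0 χ * a0 χ - 2 * (∑ χ, a0 χ * c χ) + ∑ χ, c χ * c χ := by
      rw [Finset.mul_sum, ← Finset.sum_sub_distrib, ← Finset.sum_add_distrib]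
      exact Finset.sum_congr rfl fun χ _ => by ring
    have h5 : ∑ χ, (if ∀ i, ξ i ≠ χ then (a0 χ - c χ) ^ 2 else 0) =
        (n : ℤ) + 2 * (δ * b) - (t : ℤ) * b ^ 2 := by
      linear_combination -hsplit + h4 + h1 - 2 * h2 + h3
    refine Eq.trans (Finset.sum_congr rfl fun χ _ => ?_) h5
    by_cases hh : ∀ i, ξ i ≠ χ <;> simp [hh]
  · intro i
    refine ⟨c (ξ i), ?_⟩
    have h := hval (ξ i) 1
    rw [Finset.sum_eq_single i (fun j _ hj => if_neg fun h => hj (hξ h))
      (fun h => absurd (Finset.mem_univ _) h), if_pos rfl, hη1] at h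
    simp only [lam_one_apply, Finset.sum_const, Finset.card_univ, nsmul_eq_mul, mul_one,
      OneMemClass.coe_one] at h
    rw [h, ← hbi i]
    have hc := card_nontriv hA.comm
    rw [hc]
    push_cast
    ring

end build

section derived

variable [Fintype G] [Fintype (IrrCharacter G)] {A : Subgroup G} {n t : ℕ} (E : ExcData A n t)
include E

/-- A class function vanishing on the conjugates of the non-trivial elements of `A` has the same inner product
with all exceptional characters. -/
theorem ExcData.classInner_eq {f : G → ℂ} (hf : ∀ g, ¬ Off A g → f g = 0) (i j : Fin t) :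
    classInner f (E.ξ i : G → ℂ) = classInner f (E.ξ j : G → ℂ) := by
  rw [classInner, classInner]
  congr 1
  refine Finset.sum_congr rfl fun g _ => ?_
  by_cases hg : Off A g
  · rw [E.val_off i j g hg]
  · rw [hf g hg, zero_mul, zero_mul]

open Classical in
theorem ExcData.sum_exc_sq (hA : CCSub A n) {a : G} (ha : a ∈ A) (ha1 : a ≠ 1) :
    ∑ i, ‖(E.ξ i : G → ℂ) a‖ ^ 2 =
      (Nat.card A : ℝ) - ((n : ℤ) + 2 * (E.δ * E.b) - (t : ℤ) * E.b ^ 2 : ℤ) := by
  have hC : Subgroup.centralizer ({a} : Set G) = A := by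
    ext g
    rw [Subgroup.mem_centralizer_singleton_iff]
    exact ⟨fun h => hA.cent a ha ha1 g h, fun h => hA.comm g h a ha⟩
  have h := Char.column_orth a a
  rw [if_pos (IsConj.refl a), hC] at h
  have h' : ∑ χ : IrrCharacter G, ‖(χ : G → ℂ) a‖ ^ 2 = (Nat.card A : ℝ) := by
    simp only [Complex.mul_conj, Complex.normSq_eq_norm_sq] at h
    exact_mod_cast h
  rw [← h', ← E.sum_non, Int.cast_sum, sum_range_split E.inj (fun χ : IrrCharacter G =>
    ‖(χ : G → ℂ) a‖ ^ 2), eq_sub_iff_add_eq, add_comm]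
  congr 1
  refine Finset.sum_congr rfl fun χ _ => ?_
  split_ifs with hχ
  · rw [E.val_non χ hχ a ha ha1]
    simp
  · simp

end derived

end Cfsg.Agent.ReeCover
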