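import Cfsg.Agent.EqLemmas
import Mathlib

/-!
# Arithmetic for the exceptional degree of a small Ree group
-/

set_option autoImplicit false

namespace Cfsg.Agent.ReeCover

theorem u_cases {t : ℕ} {u : ℤ} (ht : 3 ≤ t) (h : (t : ℤ) * u ^ 2 - 2 * u - 4 ≤ 0) :
    u = 0 ∨ (u = 1 ∧ t ≤ 6) := by
  have h3 : (3 : ℤ) ≤ (t : ℤ) := by exact_mod_cast ht
  have h4 : 3 * u ^ 2 ≤ (t : ℤ) * u ^ 2 := mul_le_mul_of_nonneg_right h3 (sq_nonneg u)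
  have h5 : -1 < u := by nlinarith
  have h6 : u < 2 := by nlinarith
  rcases (show u = 0 ∨ u = 1 by omega) with rfl | rfl
  · exact Or.inl rfl
  · refine Or.inr ⟨rfl, ?_⟩
    have : (t : ℤ) ≤ 6 := by linarith
    exact_mod_cast this

/-- A degree divisible by `(q - 1)/2` and by the other torus order is large (`q ≥ 243`). -/
theorem two_e_ge {s e t : ℕ} {ε φ n : ℤ} (hs : 9 ≤ s) (he : 0 < e)
    (hε : ε = 1 ∨ ε = -1) {k' : ℕ} (hk' : (k' : ℤ) = 3 * (s : ℤ) ^ 2 + ε * (3 * s) + 1)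
    (hcop : Nat.Coprime ((3 * s ^ 2 - 1) / 2) k') (hodd : Odd s)
    (h1 : (3 * s ^ 2 - 1) / 2 ∣ e) (h2 : k' ∣ e)
    (h3 : (e : ℤ) - φ = (3 * (s : ℤ) ^ 2) ^ 2 * n)
    (ht : 6 * (t : ℤ) ≥ 3 * (s : ℤ) ^ 2 - 3 * s)
    (h4 : (t : ℤ) * φ ^ 2 ≤ (3 * (s : ℤ) ^ 2) ^ 3) :
    (s : ℤ) * (3 * (s : ℤ) ^ 2 - 1) * k' ≤ 2 * (e : ℤ) := by
  obtain ⟨j, hj⟩ := hcop.mul_dvd_of_dvd_of_dvd h1 h2
  have hs' : (9 : ℤ) ≤ s := by exact_mod_cast hs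
  have hm : 2 * (((3 * s ^ 2 - 1) / 2 : ℕ) : ℤ) = 3 * (s : ℤ) ^ 2 - 1 := by
    obtain ⟨c, hc⟩ : Odd (3 * s ^ 2) := (show Odd 3 from ⟨1, rfl⟩).mul (hodd.pow)
    rw [hc, show (2 * c + 1 - 1) / 2 = c by omega]
    have : ((3 * s ^ 2 : ℕ) : ℤ) = 2 * (c : ℤ) + 1 := by rw [hc]; push_cast; ring
    push_cast at this
    linarith
  have hej : 2 * (e : ℤ) = (3 * (s : ℤ) ^ 2 - 1) * k' * j := by
    rw [hj, ← hm]; push_cast; ring
  by_contra hlt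
  have hk0 : (0 : ℤ) ≤ k' := Int.natCast_nonneg k'
  have hpos : (0 : ℤ) ≤ (3 * (s : ℤ) ^ 2 - 1) * k' := mul_nonneg (by nlinarith) hk0
  have hjs : j + 1 ≤ s := by
    by_contra hc
    apply hlt
    rw [hej, mul_assoc, mul_comm (s : ℤ)]
    exact mul_le_mul_of_nonneg_left (by exact_mod_cast (show s ≤ j by omega)) hpos
  have hj1 : (1 : ℤ) ≤ j := by
    have : 0 < j := Nat.pos_of_ne_zero fun h => by rw [h, mul_zero] at hj; omega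
    exact_mod_cast this
  have hjs' : (j : ℤ) + 1 ≤ s := by exact_mod_cast hjs
  -- `|φ| ≤ 3 q`
  have hφ : φ ^ 2 ≤ (3 * (3 * (s : ℤ) ^ 2)) ^ 2 := by
    by_contra hc
    push Not at hc
    have hts : (4 : ℤ) * (s : ℤ) ^ 2 ≤ 9 * (t : ℤ) := by nlinarith
    have : (4 * (s : ℤ) ^ 2) * (3 * (3 * (s : ℤ) ^ 2)) ^ 2 < 9 * ((t : ℤ) * φ ^ 2) := by
      calc _ < (4 * (s : ℤ) ^ 2) * φ ^ 2 := mul_lt_mul_of_pos_left hc (by positivity)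
        _ ≤ 9 * (t : ℤ) * φ ^ 2 := mul_le_mul_of_nonneg_right hts (sq_nonneg _)
        _ = _ := by ring
    nlinarith [pow_pos (show (0 : ℤ) < s by linarith) 6]
  have hφ' : |φ| ≤ 3 * (3 * (s : ℤ) ^ 2) := abs_le_of_sq_le_sq hφ (by positivity)
  obtain ⟨hφ1, hφ2⟩ := abs_le.1 hφ'
  set q : ℤ := 3 * (s : ℤ) ^ 2 with hq
  set R : ℤ := ε * (3 * s) * j * q - j * (ε * (3 * s) + 1) - 2 * φ with hR
  have hR0 : R = q ^ 2 * (2 * n - j) := by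
    rw [hR]
    have : 2 * (e : ℤ) - 2 * φ = q ^ 2 * (2 * n) := by linear_combination 2 * h3
    linear_combination this - hej - (q - 1) * (j : ℤ) * hk'
  have hjb : (3 * s : ℤ) * j * q ≤ q ^ 2 - 3 * s * q := by
    have h := mul_le_mul_of_nonneg_right hjs' (show (0 : ℤ) ≤ 3 * s * q by positivity)
    have : (s : ℤ) * (3 * s * q) = q ^ 2 := by rw [hq]; ring
    linarith [show ((j : ℤ) + 1) * (3 * s * q) = 3 * s * j * q + 3 * s * q by ring]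
  have hjr : (j : ℤ) * (3 * s + 1) ≤ 2 * q := by
    have h := mul_le_mul_of_nonneg_right hjs' (show (0 : ℤ) ≤ 3 * s + 1 by positivity)
    rw [hq]
    nlinarith
  have hlow : 27 * q ≤ 3 * s * j * q := by
    have : (27 : ℤ) * 1 ≤ 3 * s * j := mul_le_mul (by linarith) hj1 (by norm_num) (by positivity)
    exact mul_le_mul_of_nonneg_right (by linarith) (by positivity)
  have hsq : 27 * q ≤ 3 * s * q := mul_le_mul_of_nonneg_right (by linarith) (by positivity)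
  have hqpos : 0 < q := by positivity
  have hJ : (j : ℤ) * (3 * s + 1) = 3 * s * j + j := by ring
  have hJ0 : 0 ≤ (3 : ℤ) * s * j := by positivity
  have hR' : R = ε * (3 * s * j * q) - ε * (3 * s * j) - j - 2 * φ := by rw [hR]; ring
  rw [hJ] at hjr
  have hzero : R = 0 := by
    by_contra hne
    have h1 : q ^ 2 ≤ |R| := by
      rw [hR0, abs_mul, abs_of_nonneg (sq_nonneg q)]
      refine le_mul_of_one_le_right (sq_nonneg q) (Int.one_le_abs ?_)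
      intro h0
      exact hne (by rw [hR0, h0, mul_zero])
    rcases hε with rfl | rfl <;> rcases le_abs.1 h1 with h | h <;> linarith
  rcases hε with rfl | rfl <;> linarith

theorem search_thirty_seven : ∀ j < 39, 703 ≤ 247 * j → (247 * j % 729 ≤ 57 ∨ 672 ≤ 247 * j % 729) →
    (247 * j % 37 = 6 ∨ 247 * j % 37 = 7 ∨ 247 * j % 37 = 30 ∨ 247 * j % 37 = 31) → False := by
  decide +kernel

set_option synthInstance.maxSize 1024 in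
theorem search_nineteen : ∀ j < 723, 703 ≤ 13 * j → (13 * j % 729 ≤ 81 ∨ 648 ≤ 13 * j % 729) →
    (13 * j % 37 = 0 ∨ 13 * j % 37 = 1 ∨ 13 * j % 37 = 36) →
    (13 * j % 19 = 6 ∨ 13 * j % 19 = 7 ∨ 13 * j % 19 = 12 ∨ 13 * j % 19 = 13) → False := by
  decide +kernel

theorem mod_window {x : ℕ} {φ n : ℤ} {w : ℕ} (hw : w ≤ 81) (h : (x : ℤ) - φ = 729 * n)
    (h1 : -(w : ℤ) ≤ φ) (h2 : φ ≤ w) : x % 729 ≤ w ∨ 729 - w ≤ x % 729 := by omega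

theorem mod_nineteen {x : ℕ} {b z : ℤ} (h : (x : ℤ) = b + 19 * z)
    (hb : b = 6 ∨ b = 7 ∨ b = -6 ∨ b = -7) :
    x % 19 = 6 ∨ x % 19 = 7 ∨ x % 19 = 12 ∨ x % 19 = 13 := by
  rcases hb with rfl | rfl | rfl | rfl <;> omega

theorem mod_thirty_seven {x : ℕ} {b z : ℤ} (h : (x : ℤ) = b + 37 * z)
    (hb : b = 6 ∨ b = 7 ∨ b = -6 ∨ b = -7) :
    x % 37 = 6 ∨ x % 37 = 7 ∨ x % 37 = 30 ∨ x % 37 = 31 := by
  rcases hb with rfl | rfl | rfl | rfl <;> omega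

theorem mod_small {x : ℕ} {b z : ℤ} (h : (x : ℤ) = b + 37 * z) (h1 : -1 ≤ b) (h2 : b ≤ 1) :
    x % 37 = 0 ∨ x % 37 = 1 ∨ x % 37 = 36 := by omega

/-- `q = 27`, torus of order 37. -/
theorem e_ge_thirty_seven {e : ℕ} {φ n z b : ℤ} (hd : 703 ≤ e) (h13 : 13 ∣ e) (h19 : 19 ∣ e)
    (hz : (e : ℤ) - φ = 729 * n) (hφ : φ ^ 2 * 6 ≤ 19683) (he : (e : ℤ) = b + 37 * z)
    (hb : b = 6 ∨ b = 7 ∨ b = -6 ∨ b = -7) : 9600 ≤ e := by
  by_contra hlt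
  obtain ⟨j, rfl⟩ : 247 ∣ e := Nat.Coprime.mul_dvd_of_dvd_of_dvd (by norm_num : Nat.Coprime 13 19) h13 h19
  have h1 : -57 ≤ φ ∧ φ ≤ 57 := by constructor <;> nlinarith
  exact search_thirty_seven j (by omega) hd (mod_window (w := 57) (by norm_num) hz h1.1 h1.2)
    (mod_thirty_seven he hb)

/-- `q = 27`, torus of order 19. -/
theorem e_ge_nineteen {e : ℕ} {φ n z b φ' z' : ℤ} (hd : 703 ≤ e) (h13 : 13 ∣ e)
    (hz : (e : ℤ) - φ = 729 * n) (hφ : φ ^ 2 * 3 ≤ 19683) (he : (e : ℤ) = b + 19 * z)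
    (hb : b = 6 ∨ b = 7 ∨ b = -6 ∨ b = -7) (he' : (e : ℤ) = φ' + 37 * z') (hφ' : φ' ^ 2 ≤ 1) :
    9399 ≤ e := by
  by_contra hlt
  obtain ⟨j, rfl⟩ := h13
  have h1 : -81 ≤ φ ∧ φ ≤ 81 := by constructor <;> nlinarith
  have h2 : -1 ≤ φ' ∧ φ' ≤ 1 := by constructor <;> nlinarith
  exact search_nineteen j (by omega) hd (mod_window (w := 81) le_rfl hz h1.1 h1.2)
    (mod_small he' h2.1 h2.2) (mod_nineteen he hb)

/-- The final inequality for `q = 3 s²`, `s ≥ 9`. -/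
theorem final_bound {s : ℕ} {W F e t : ℝ} (hs : 9 ≤ s)
    (hW0 : 0 ≤ W) (hW : W ≤ 6 * t) (hF : 0 ≤ F) (hFt : t * F ^ 2 ≤ (3 * (s : ℝ) ^ 2) ^ 3)
    (ht : 6 * t ≤ 3 * (s : ℝ) ^ 2 + 3 * s)
    (he : (s : ℝ) * (3 * (s : ℝ) ^ 2 - 1) * (3 * (s : ℝ) ^ 2 - 3 * s + 1) ≤ 2 * e) :
    4 * (5.2 * (s : ℝ) ^ 3) / ((3 * (s : ℝ) ^ 2) ^ 2 - 3 * (s : ℝ) ^ 2 + 1) +
      5.2 * (s : ℝ) ^ 3 / (3 * (s : ℝ) ^ 2) ^ 3 + W * F / e < 1 := by
  have hs' : (9 : ℝ) ≤ s := by exact_mod_cast hs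
  set x : ℝ := (s : ℝ) with hx
  have x2 : 81 ≤ x ^ 2 := by nlinarith
  have x3 : 729 ≤ x ^ 3 := by nlinarith
  have a1 : 242 / 81 * x ^ 2 ≤ 3 * x ^ 2 - 1 := by nlinarith
  have a2 : 8 / 3 * x ^ 2 ≤ 3 * x ^ 2 - 3 * x + 1 := by nlinarith
  have a3 : 702 / 10 * x ^ 4 ≤ 2 * e := by
    refine le_trans ?_ he
    calc 702 / 10 * x ^ 4 ≤ 9 * (242 / 81 * x ^ 2) * (8 / 3 * x ^ 2) := by nlinarith
      _ ≤ x * (3 * x ^ 2 - 1) * (3 * x ^ 2 - 3 * x + 1) :=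
        mul_le_mul (mul_le_mul hs' a1 (by positivity) (by linarith)) a2 (by positivity)
          (mul_nonneg (by linarith) (by linarith))
  have a4 : (W * F) ^ 2 ≤ (2.6 * 9 * x ^ 4) ^ 2 := by
    have b1 : t * F ^ 2 * (6 * t) ≤ (3 * x ^ 2) ^ 3 * (10 / 3 * x ^ 2) :=
      mul_le_mul hFt (by nlinarith) (by linarith) (by positivity)
    have b2 : W ^ 2 * F ^ 2 ≤ (6 * t) ^ 2 * F ^ 2 :=
      mul_le_mul_of_nonneg_right (pow_le_pow_left₀ hW0 hW 2) (sq_nonneg F)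
    nlinarith [pow_nonneg (show (0 : ℝ) ≤ x by linarith) 8]
  have a5 : W * F ≤ 2.6 * 9 * x ^ 4 :=
    le_of_pow_le_pow_left₀ two_ne_zero (by positivity) a4
  have e0 : 0 < e := by nlinarith [pow_pos (show (0 : ℝ) < x by linarith) 4]
  have t3 : W * F / e ≤ 2 / 3 := by
    rw [div_le_iff₀ e0]
    nlinarith
  have d0 : (0 : ℝ) < (3 * x ^ 2) ^ 2 - 3 * x ^ 2 + 1 := by nlinarith
  have t1 : 4 * (5.2 * x ^ 3) / ((3 * x ^ 2) ^ 2 - 3 * x ^ 2 + 1) ≤ 0.3 := by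
    rw [div_le_iff₀ d0]
    nlinarith [mul_le_mul_of_nonneg_right hs' (show (0 : ℝ) ≤ x ^ 3 by linarith),
      mul_le_mul_of_nonneg_right hs' (show (0 : ℝ) ≤ x ^ 2 by linarith)]
  have t2 : 5.2 * x ^ 3 / (3 * x ^ 2) ^ 3 ≤ 0.01 := by
    rw [div_le_iff₀ (by positivity)]
    nlinarith [mul_le_mul_of_nonneg_right x3 (show (0 : ℝ) ≤ x ^ 3 by linarith)]
  linarith

end Cfsg.Agent.ReeCover
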