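import Cfsg.Agent.Lib.ReeCover.Steinberg
import Cfsg.Agent.Lib.ReeCover.Exceptional

/-!
# The class product sum at an element of a regular torus

* `pair_le_sum`, `ExcData.exc_sq_le`
* `exc_bound` : the sum over non-principal characters through the exceptional data
-/

set_option autoImplicit false
set_option linter.unusedSectionVars false

namespace Cfsg.Agent.ReeCover

open Cfsg Subgroup

variable {G : Type*} [Group G] [Finite G] [Fintype (IrrCharacter G)]

theorem pair_le_sum {X M : Type*} [Fintype X] [AddCommMonoid M] [PartialOrder M] [IsOrderedAddMonoid M]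
    (f : X → M) (hf : ∀ x, 0 ≤ f x) {a b : X} (hab : a ≠ b) : f a + f b ≤ ∑ x, f x := by
  classical
  rw [← Finset.sum_pair hab]
  exact Finset.sum_le_sum_of_subset_of_nonneg (Finset.subset_univ _) fun x _ _ => hf x

theorem pair_add_range_le {X M : Type*} [Fintype X] [AddCommMonoid M] [PartialOrder M] [IsOrderedAddMonoid M]
    (f : X → M) (hf : ∀ x, 0 ≤ f x) {a b : X} (hab : a ≠ b) {s : ℕ} {ξ : Fin s → X}
    (hξ : Function.Injective ξ) (ha : ∀ i, ξ i ≠ a) (hb : ∀ i, ξ i ≠ b) :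
    f a + f b + ∑ i, f (ξ i) ≤ ∑ x, f x := by
  classical
  rw [sum_range_split hξ f]
  refine add_le_add_left ?_ _ |>.trans' le_rfl
  have h := pair_le_sum (fun x => if ∀ i, ξ i ≠ x then f x else 0)
    (fun x => by split_ifs <;> first | exact hf x | exact le_rfl) hab
  simpa only [if_pos ha, if_pos hb] using h

variable {A : Subgroup G} {n t : ℕ} (E : ExcData A n t)
include E

/-- The common value of the exceptional characters at `g` is small. -/
theorem ExcData.exc_sq_le (i : Fin t) {g : G} (hg : Off A g) :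
    (t : ℝ) * ‖(E.ξ i : G → ℂ) g‖ ^ 2 ≤ (Nat.card (centralizer ({g} : Set G)) : ℝ) := by
  classical
  rw [← sum_sq_eq g, sum_range_split E.inj (fun χ : IrrCharacter G => ‖(χ : G → ℂ) g‖ ^ 2)]
  refine le_add_of_nonneg_of_le (Finset.sum_nonneg fun χ _ => ?_) (le_of_eq ?_)
  · split_ifs <;> positivity
  · rw [Finset.sum_congr rfl fun j _ => by rw [E.val_off j i g hg], Finset.sum_const, Finset.card_univ,
      Fintype.card_fin, nsmul_eq_mul]

open Classical in
theorem exc_bound [Fintype G] (hA : CCSub A n) {a g : G} (ha : a ∈ A) (ha1 : a ≠ 1) (hg : Off A g)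
    {St' : IrrCharacter G} (hst : St' ≠ oneChar G)
    (h1n : ∀ i, E.ξ i ≠ oneChar G) (hsn : ∀ i, E.ξ i ≠ St') (hc1 : E.c (oneChar G) ^ 2 = 1)
    (hcs : E.c St' ^ 2 = 1) {d qc e F Q : ℝ} (hd : 0 < d) (hqc : 0 < qc) (he : 0 < e)
    (hdeg : ∀ χ : IrrCharacter G, χ ≠ oneChar G → d ≤ ‖(χ : G → ℂ) 1‖)
    (hsdeg : ‖(St' : G → ℂ) 1‖ = qc) (hedeg : ∀ i, ‖(E.ξ i : G → ℂ) 1‖ = e)
    (hF : ∀ i, ‖(E.ξ i : G → ℂ) g‖ ≤ F) (hQ : ∀ χ : IrrCharacter G, ‖(χ : G → ℂ) g‖ ≤ Q) :
    restSum a g ≤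
      (((n : ℤ) + 2 * (E.δ * E.b) - (t : ℤ) * E.b ^ 2 - 2 : ℤ) : ℝ) * Q / d + Q / qc +
        ((Nat.card A : ℝ) - ((n : ℤ) + 2 * (E.δ * E.b) - (t : ℤ) * E.b ^ 2 : ℤ)) * F / e := by
  set f : IrrCharacter G → ℝ := fun χ =>
    if χ = oneChar G then 0 else ‖(χ : G → ℂ) a‖ ^ 2 * ‖(χ : G → ℂ) g‖ / ‖(χ : G → ℂ) 1‖ with hf
  have hf0 : ∀ χ ∈ Finset.univ.erase (oneChar G),
      ‖(χ : G → ℂ) a‖ ^ 2 * ‖(χ : G → ℂ) g‖ / ‖(χ : G → ℂ) 1‖ = f χ := fun χ hχ => by
    rw [hf]; simp only [if_neg (Finset.ne_of_mem_erase hχ)]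
  rw [restSum]
  refine le_of_eq_of_le (Finset.sum_congr (s₂ := Finset.univ.erase (oneChar G)) (by ext y; simp) hf0) ?_
  rw [Finset.sum_erase _ (by simp [hf]), sum_range_split E.inj f]
  have hQ0 : 0 ≤ Q := le_trans (norm_nonneg _) (hQ (oneChar G))
  refine add_le_add ?_ ?_
  · refine le_trans (le_of_eq (Finset.sum_congr rfl fun χ _ => ?_)) (calc
      ∑ χ, (if ∀ i, E.ξ i ≠ χ then f χ else 0) ≤ ∑ χ, ((if ∀ i, E.ξ i ≠ χ then ((E.c χ ^ 2 : ℤ) : ℝ) * (Q / d) else 0) -
            (if oneChar G = χ then Q / d else 0) + (if St' = χ then Q / qc - Q / d else 0)) := by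
          refine Finset.sum_le_sum fun χ _ => ?_
          by_cases hχ : ∀ i, E.ξ i ≠ χ
          · rw [if_pos hχ, if_pos hχ]
            have hv : ‖(χ : G → ℂ) a‖ ^ 2 = ((E.c χ ^ 2 : ℤ) : ℝ) := by
              rw [E.val_non χ hχ a ha ha1]; simp
            by_cases h1 : χ = oneChar G
            · subst h1
              simp only [hf, if_pos rfl, if_neg hst, hc1, if_true]
              simp
            rw [hf]
            simp only [if_neg h1, if_neg (Ne.symm h1), sub_zero]
            by_cases hs : St' = χ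
            · subst hs
              rw [if_pos rfl, hv, hsdeg, hcs]
              push_cast
              rw [one_mul, one_mul, add_sub_cancel]
              exact div_le_div_of_nonneg_right (hQ _) hqc.le
            · rw [if_neg hs, add_zero, hv, mul_div_assoc]
              refine mul_le_mul_of_nonneg_left ?_ (by exact_mod_cast sq_nonneg (E.c χ))
              exact div_le_div₀ hQ0 (hQ χ) hd (hdeg χ h1)
          · rw [if_neg hχ, if_neg hχ, if_neg (fun h : oneChar G = χ => hχ fun i => h ▸ h1n i),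
              if_neg (fun h : St' = χ => hχ fun i => h ▸ hsn i)]
            simp
      _ = ((((n : ℤ) + 2 * (E.δ * E.b) - (t : ℤ) * E.b ^ 2 : ℤ)) : ℝ) * (Q / d) - Q / d +
            (Q / qc - Q / d) := by
          rw [Finset.sum_add_distrib, Finset.sum_sub_distrib, Finset.sum_ite_eq, Finset.sum_ite_eq,
            if_pos (Finset.mem_univ _), if_pos (Finset.mem_univ _), ← E.sum_non, Int.cast_sum,
            Finset.sum_mul]
          congr 2
          refine Finset.sum_congr rfl fun χ _ => ?_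
          by_cases hh : ∀ i, E.ξ i ≠ χ <;> simp [hh]
      _ = _ := by push_cast; ring)
    by_cases hh : ∀ i, E.ξ i ≠ χ <;> simp [hh]
  · rw [← E.sum_exc_sq hA ha ha1, Finset.sum_mul, Finset.sum_div]
    refine Finset.sum_le_sum fun i _ => ?_
    rw [hf]
    simp only [if_neg (h1n i), hedeg i]
    exact div_le_div_of_nonneg_right (mul_le_mul_of_nonneg_left (hF i) (sq_nonneg _)) he.le

end Cfsg.Agent.ReeCover
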