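import Cfsg.Agent.Lib.ReeCover.Steinberg
import Cfsg.Agent.Lib.ReeCover.Exceptional

/-!
# Exceptional characters vanish on the split torus

* `ExcData.vanish_H` : `ξ(h) = 0` for `1 ≠ h ∈ H` of odd order
* `ExcData.half_dvd_degree` : `(q - 1)/2` divides the common degree
-/

set_option autoImplicit false
set_option linter.unusedSectionVars false

namespace Cfsg.Agent.ReeCover

open Cfsg Subgroup
open Cfsg.Agent.ReeTori
open scoped ComplexConjugate Pointwise

variable {G : Type*} [Group G] [Fintype G] [Fintype (IrrCharacter G)]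
  {L : Type*} [Group L] [Finite L] {q : ℕ} (D : Data G L q)
include D

/-- The projection of the Borel subgroup onto the torus. -/
theorem exists_proj : ∃ p : ↥(MulAction.stabilizer G D.P) →* ↥D.H,
    ∀ b : ↥(MulAction.stabilizer G D.P), (b : G) * ((p b : G))⁻¹ ∈ (D.P : Subgroup G) := by
  have hex : ∀ b : ↥(MulAction.stabilizer G D.P),
      ∃ h : ↥D.H, (b : G) * (h : G)⁻¹ ∈ (D.P : Subgroup G) := fun b => by
    obtain ⟨u, hu, h, hh, e⟩ := D.exists_PH (g := (b : G)) (Sylow.smul_eq_iff_mem_normalizer.1 b.2)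
    exact ⟨⟨h, hh⟩, by rw [e]; simpa using hu⟩
  have huniq : ∀ (b : G) (h h' : ↥D.H), b * (h : G)⁻¹ ∈ (D.P : Subgroup G) →
      b * (h' : G)⁻¹ ∈ (D.P : Subgroup G) → h = h' := fun b h h' h1 h2 => by
    have h3 : (h' : G) * (h : G)⁻¹ = 1 := D.eq_one_of_mem (by
      have := mul_mem (inv_mem h2) h1
      simpa [mul_assoc] using this) (mul_mem h'.2 (inv_mem h.2))
    exact Subtype.ext (mul_inv_eq_one.1 h3).symm
  choose p hp using hex
  refine ⟨MonoidHom.mk' p fun a b => huniq _ _ _ (hp _) ?_, hp⟩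
  show (a : G) * b * ((p a : G) * p b)⁻¹ ∈ (D.P : Subgroup G)
  rw [show (a : G) * b * ((p a : G) * p b)⁻¹ =
    ((a : G) * (p a : G)⁻¹) * ((p a : G) * ((b : G) * (p b : G)⁻¹) * (p a : G)⁻¹) by group]
  exact mul_mem (hp a) ((Subgroup.mem_normalizer_iff.1 (D.H_le (p a).2) _).1 (hp b))

/-- The permutation character of the Sylow 3-subgroups as an induced character. -/
theorem indFun_stabilizer_one (g : G) :
    indFun (MulAction.stabilizer G D.P) (1 : ↥(MulAction.stabilizer G D.P) → ℂ) g = St G g + 1 := by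
  haveI : Fact (Nat.Prime 3) := ⟨Nat.prime_three⟩
  rw [Char.indFun_one_eq_fixedPoints, St, sub_add_cancel]
  congr 1
  have hbij : Function.Bijective (MulAction.ofQuotientStabilizer G D.P) :=
    ⟨MulAction.injective_ofQuotientStabilizer G D.P, fun R => by
      obtain ⟨y, hy⟩ := MulAction.exists_smul_eq G D.P R
      exact ⟨(y : G ⧸ MulAction.stabilizer G D.P), hy⟩⟩
  refine Nat.card_congr (Equiv.subtypeEquiv (Equiv.ofBijective _ hbij) fun x => ?_)
  show g • x = x ↔ g • MulAction.ofQuotientStabilizer G D.P x = MulAction.ofQuotientStabilizer G D.P x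
  rw [← MulAction.ofQuotientStabilizer_smul]
  exact hbij.1.eq_iff.symm

theorem perm_norm :
    classInner (fun g => St G g + 1) (fun g => St G g + 1) = (2 : ℂ) := by
  obtain ⟨hq27, -, -⟩ := D.q_facts
  have hne : St G ≠ 1 := fun e => by
    have h := congrFun e 1
    rw [st_one D, Pi.one_apply] at h
    have h1 : ((q ^ 3 : ℕ) : ℂ) = ((1 : ℕ) : ℂ) := by push_cast; exact h
    have h2 := Nat.cast_injective h1
    rcases (Nat.pow_eq_one.1 h2) with h3 | h3 <;> omega
  have e : (fun g => St G g + 1) = St G + 1 := rfl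
  rw [e, Char.classInner_add_left, Char.classInner_add_right, Char.classInner_add_right,
    Char.classInner_irr_self (st_irr D), Char.classInner_irr_self Char.isIrrCharacter_one,
    Char.classInner_irr_of_ne (st_irr D) Char.isIrrCharacter_one hne,
    Char.classInner_irr_of_ne Char.isIrrCharacter_one (st_irr D) (Ne.symm hne)]
  norm_num

variable {A : Subgroup G} {t : ℕ} (E : ExcData A 6 t)
  (hcop : Nat.Coprime (Nat.card A) (q ^ 3 * (q - 1)))
include E hcop

theorem ExcData.vanish_H (i : Fin t) {h : G} (hh : h ∈ D.H) (h1 : h ≠ 1) (ho : Odd (orderOf h)) :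
    (E.ξ i : G → ℂ) h = 0 := by
  classical
  haveI : Fact (Nat.Prime 3) := ⟨Nat.prime_three⟩
  set B := MulAction.stabilizer G D.P with hB
  obtain ⟨p, hp⟩ : ∃ p : ↥B →* ↥D.H, ∀ b : ↥B, (b : G) * ((p b : G))⁻¹ ∈ (D.P : Subgroup G) :=
    exists_proj D
  haveI : Finite (↥D.H →* ℂˣ) :=
    Finite.of_equiv _ (dualEquiv (A := D.H) fun a ha b hb => D.H_comm ha hb).symm
  haveI := Fintype.ofFinite (↥D.H →* ℂˣ)
  -- orthogonality of the induced linear characters to the exceptional characters
  have horth : ∀ l : ↥D.H →* ℂˣ, ∑ b : B, lam D.H l (p b) * conj ((E.ξ i : G → ℂ) b) = 0 := by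
    intro l
    set θ : B → ℂ := fun b => lam D.H l (p b) with hθ
    have hθc : IsCharacter B θ := Char.IsCharacter.comp_hom (isCharacter_lam l) p
    have hPc := Char.IsCharacter.indFun B hθc
    obtain ⟨mu, hmu1, hmu2⟩ := Char.IsCharacter.decompose hPc
    have hoff : ∀ g, ¬ Off A g → indFun B θ g = 0 := by
      intro g hg
      simp only [Off, not_forall] at hg
      obtain ⟨c, hc, hg1⟩ := hg
      rw [indFun, Finset.sum_eq_zero, mul_zero]
      intro x _
      refine Char.extendByZero_not_mem B _ fun hm => hg1 ?_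
      rw [← orderOf_eq_one_iff]
      refine Nat.eq_one_of_dvd_coprimes hcop ?_ ?_
      · rw [← orderOf_conj c g]; exact orderOf_dvd_natCard _ hc
      · have h2 := orderOf_dvd_natCard _ hm
        have h3 := orderOf_conj x⁻¹ g
        rw [inv_inv] at h3
        rw [h3] at h2
        rwa [hB, Sylow.stabilizer_eq_normalizer, D.sylow_regular.2.2] at h2
    have hN : (∑ φ, (mu φ : ℝ) ^ 2) ≤ 2 := by
      have h1 := Char.classInner_eq_sum (Char.indFun_isClassFunction B θ) (indFun B θ)
      simp only [hmu2, map_natCast] at h1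
      have h2 : (Nat.card G : ℂ) * classInner (indFun B θ) (indFun B θ) =
          ((∑ g, ‖indFun B θ g‖ ^ 2 : ℝ) : ℂ) := by
        rw [Char.card_mul_classInner]
        push_cast
        exact Finset.sum_congr rfl fun g _ => Complex.mul_conj' _
      have h3 : (Nat.card G : ℂ) * 2 = ((∑ g, ‖(St G g + 1 : ℂ)‖ ^ 2 : ℝ) : ℂ) := by
        rw [← perm_norm D, Char.card_mul_classInner]
        push_cast
        exact Finset.sum_congr rfl fun g _ => Complex.mul_conj' _
      rw [h1] at h2
      have h4 : (Nat.card G : ℝ) * ∑ φ, (mu φ : ℝ) ^ 2 = ∑ g, ‖indFun B θ g‖ ^ 2 := by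
        apply Complex.ofReal_injective
        rw [← h2]
        push_cast
        congr 1
        exact Finset.sum_congr rfl fun φ _ => pow_two _
      have h5 : (Nat.card G : ℝ) * 2 = ∑ g, ‖(St G g + 1 : ℂ)‖ ^ 2 := by
        apply Complex.ofReal_injective
        rw [← h3]
        push_cast
        rfl
      have h6 : ∀ g, ‖indFun B θ g‖ ≤ ‖(St G g + 1 : ℂ)‖ := by
        intro g
        have hfix : (St G g + 1 : ℂ) = ((Nat.card (MulAction.fixedBy (Sylow 3 G) g) : ℕ) : ℂ) := by
          rw [St, sub_add_cancel]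
        have h7 : ((∑ x : G, (if x⁻¹ * g * x ∈ B then (1 : ℝ) else 0)) * (Nat.card B : ℝ)⁻¹) =
            ‖(St G g + 1 : ℂ)‖ := by
          have h8 := indFun_stabilizer_one D g
          rw [hfix] at h8 ⊢
          rw [Complex.norm_natCast]
          apply Complex.ofReal_injective
          push_cast
          rw [← h8, indFun, mul_comm]
          congr 1
          refine Finset.sum_congr rfl fun x _ => ?_
          rw [Char.extendByZero_eq]
          split_ifs <;> simp
        rw [← h7, indFun, norm_mul, norm_inv, Complex.norm_natCast, mul_comm]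
        refine mul_le_mul_of_nonneg_right ((norm_sum_le _ _).trans (Finset.sum_le_sum fun x _ => ?_))
          (by positivity)
        by_cases hm : x⁻¹ * g * x ∈ B
        · rw [Char.extendByZero_mem B _ hm, if_pos hm]
          refine le_of_eq (Complex.norm_eq_one_of_pow_eq_one (n := Nat.card ↥D.H) ?_ Nat.card_pos.ne')
          rw [hθ]
          simp only [lam]
          rw [← Units.val_pow_eq_pow_val, ← map_pow, pow_card_eq_one', map_one, Units.val_one]
        · rw [Char.extendByZero_not_mem B _ hm, if_neg hm, norm_zero]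
      have hG : 0 < (Nat.card G : ℝ) := by exact_mod_cast Nat.card_pos
      refine le_of_mul_le_mul_left ?_ hG
      rw [h4, h5]
      exact Finset.sum_le_sum fun g _ => pow_le_pow_left₀ (norm_nonneg _) (h6 g) 2
    have hzero : mu (E.ξ i) = 0 := by
      have heq : ∀ j, mu (E.ξ j) = mu (E.ξ i) := fun j => by
        have h2 := E.classInner_eq hoff j i
        rw [hmu2, hmu2] at h2
        exact_mod_cast h2
      have h2 : (t : ℝ) * (mu (E.ξ i) : ℝ) ^ 2 ≤ 2 := by
        refine le_trans ?_ hN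
        rw [sum_range_split E.inj (fun φ => (mu φ : ℝ) ^ 2)]
        simp only [heq, Finset.sum_const, Finset.card_univ, Fintype.card_fin, nsmul_eq_mul]
        refine le_add_of_nonneg_left (Finset.sum_nonneg fun φ _ => ?_)
        split_ifs <;> positivity
      have h3 : (3 : ℝ) ≤ t := by exact_mod_cast E.t_three
      by_contra hne
      have h4 : (1 : ℝ) ≤ mu (E.ξ i) := by exact_mod_cast Nat.one_le_iff_ne_zero.2 hne
      nlinarith
    have h9 := Char.frobenius_reciprocity B θ (Char.IsIrrCharacter.isClassFunction (E.ξ i).2)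
    rw [hmu2, hzero, Nat.cast_zero] at h9
    have h10 := Char.card_mul_classInner θ (fun b : B => (E.ξ i : G → ℂ) b)
    rw [← h9, mul_zero] at h10
    exact h10.symm
  set h0 : ↥D.H := ⟨h, hh⟩ with hh0
  have hfib : ∑ b ∈ Finset.univ.filter (fun b : B => p b = h0), conj ((E.ξ i : G → ℂ) b) = 0 := by
    have hkey : ∑ l : ↥D.H →* ℂˣ, lam D.H l h0⁻¹ *
        ∑ b : B, lam D.H l (p b) * conj ((E.ξ i : G → ℂ) b) = 0 :=
      Finset.sum_eq_zero fun l _ => by rw [horth l, mul_zero]
    simp only [Finset.mul_sum] at hkey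
    rw [Finset.sum_comm] at hkey
    simp only [← mul_assoc, ← Finset.sum_mul] at hkey
    have hd : ∀ b : B, ∑ l : ↥D.H →* ℂˣ, lam D.H l h0⁻¹ * lam D.H l (p b) =
        if p b = h0 then (Nat.card (↥D.H →* ℂˣ) : ℂ) else 0 := by
      intro b
      have e : ∀ l : ↥D.H →* ℂˣ, lam D.H l h0⁻¹ * lam D.H l (p b) = lam D.H l (h0⁻¹ * p b) := fun l => by
        simp [lam]
      simp only [e]
      by_cases hb : p b = h0
      · simp [hb, lam]
      · rw [if_neg hb, sum_lam (fun a ha b hb => D.H_comm ha hb) (fun e => hb (inv_mul_eq_one.1 e).symm)]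
    simp only [hd, ite_mul, zero_mul, ← Finset.sum_filter, ← Finset.mul_sum] at hkey
    exact (mul_eq_zero.1 hkey).resolve_left (Nat.cast_ne_zero.2 Nat.card_pos.ne')
  have hconst : ∀ b ∈ Finset.univ.filter (fun b : B => p b = h0),
      conj ((E.ξ i : G → ℂ) b) = conj ((E.ξ i : G → ℂ) h) := by
    intro b hb
    congr 1
    have hu := hp b
    rw [(Finset.mem_filter.1 hb).2] at hu
    let f : ↥(D.P : Subgroup G) → ↥(D.P : Subgroup G) := fun v =>
      ⟨(v : G) * (h * (v : G)⁻¹ * h⁻¹),
        mul_mem v.2 ((Subgroup.mem_normalizer_iff.1 (D.H_le hh) _).1 (inv_mem v.2))⟩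
    have hf : Function.Injective f := by
      intro v w e
      have e' : (v : G) * (h * (v : G)⁻¹ * h⁻¹) = w * (h * (w : G)⁻¹ * h⁻¹) := congrArg Subtype.val e
      have hc : Commute h ((w : G)⁻¹ * v) := by
        show h * ((w : G)⁻¹ * v) = (w : G)⁻¹ * v * h
        calc h * ((w : G)⁻¹ * v) = (w : G)⁻¹ * (w * (h * (w : G)⁻¹ * h⁻¹)) * h * v := by group
          _ = (w : G)⁻¹ * ((v : G) * (h * (v : G)⁻¹ * h⁻¹)) * h * v := by rw [e']
          _ = _ := by group
      exact Subtype.ext (inv_mul_eq_one.1 (D.fpf h hh h1 ho _ (mul_mem (inv_mem w.2) v.2) hc)).symm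
    obtain ⟨v, hv⟩ := (Finite.injective_iff_surjective.1 hf) ⟨_, hu⟩
    have hv' : (v : G) * (h * (v : G)⁻¹ * h⁻¹) = (b : G) * h⁻¹ := congrArg Subtype.val hv
    have hb' : (b : G) = (v : G) * h * (v : G)⁻¹ := by
      rw [← inv_mul_cancel_right (b : G) h, ← hv']; group
    rw [hb', Char.IsIrrCharacter.isClassFunction (E.ξ i).2]
  rw [Finset.sum_congr rfl hconst, Finset.sum_const, nsmul_eq_mul] at hfib
  have hmem : (Finset.univ.filter fun b : B => p b = h0).Nonempty := by
    refine ⟨⟨h, (D.fix_of_mem_H hh).1⟩, Finset.mem_filter.2 ⟨Finset.mem_univ _, ?_⟩⟩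
    have := hp ⟨h, (D.fix_of_mem_H hh).1⟩
    refine Subtype.ext ?_
    exact (mul_inv_eq_one.1 (D.eq_one_of_mem this (mul_mem hh (inv_mem (p _).2)))).symm
  have := (mul_eq_zero.1 hfib).resolve_left (Nat.cast_ne_zero.2 hmem.card_ne_zero)
  simpa using congrArg conj this

theorem ExcData.half_dvd_degree (i : Fin t) :
    ∃ n : ℕ, (E.ξ i : G → ℂ) 1 = (((q - 1) / 2 * n : ℕ) : ℂ) := by
  classical
  obtain ⟨hq27, hq8, -⟩ := D.q_facts
  haveI := D.H_cyclic
  obtain ⟨g, hg⟩ := IsCyclic.exists_generator (α := D.H)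
  have hgo : orderOf (g : G) = q - 1 := by
    rw [Subgroup.orderOf_coe, ← D.H_card]; exact orderOf_eq_card_of_forall_mem_zpowers hg
  have ho : orderOf ((g : G) ^ 2) = (q - 1) / 2 := by
    rw [orderOf_pow_of_dvd (by norm_num) (hgo ▸ ⟨(q - 1) / 2, by omega⟩), hgo]
  obtain ⟨n, hn⟩ := ClassCount.exists_sum_subgroup_eq (zpowers ((g : G) ^ 2))
    (Char.IsIrrCharacter.isCharacter (E.ξ i).2)
  refine ⟨n, ?_⟩
  rw [Fintype.sum_eq_single (1 : ↥(zpowers ((g : G) ^ 2)))] at hn
  · rw [Nat.card_zpowers, ho] at hn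
    push_cast
    exact hn
  · intro y hy
    refine E.vanish_H D hcop i ((zpowers_le.2 (pow_mem g.2 2)) y.2) (fun e => hy (Subtype.ext e)) ?_
    refine Odd.of_dvd_nat ?_ (orderOf_dvd_natCard _ y.2)
    rw [Nat.card_zpowers, ho]
    exact ⟨(q - 1) / 4, by omega⟩

end Cfsg.Agent.ReeCover
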