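import Cfsg.Agent.Lib.ReeCover.Arith

/-!
# The numerical inequality for a regular torus of a small Ree group
-/

set_option autoImplicit false
set_option linter.unusedVariables false

namespace Cfsg.Agent.ReeCover

set_option maxHeartbeats 1000000 in
theorem numeric_key {m : ℕ} (hm : 1 ≤ m) {k t e k' : ℕ} {δ u ε φ nz φ' z z' : ℤ} {F0 : ℝ}
    (hk : k = 6 * t + 1) (hδ : δ = 1 ∨ δ = -1) (hu : u = 0 ∨ (u = 1 ∧ t ≤ 6))
    (hε : ε = 1 ∨ ε = -1) (hkA : (k : ℤ) = 3 * ((3 : ℤ) ^ m) ^ 2 - ε * (3 * 3 ^ m) + 1)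
    (hkA' : (k' : ℤ) = 3 * ((3 : ℤ) ^ m) ^ 2 + ε * (3 * 3 ^ m) + 1)
    (hcop : Nat.Coprime ((3 ^ (2 * m + 1) - 1) / 2) k')
    (hde : (3 ^ (2 * m + 1)) ^ 2 - 3 ^ (2 * m + 1) + 1 ≤ e) (hhalf : (3 ^ (2 * m + 1) - 1) / 2 ∣ e)
    (hphi : (e : ℤ) - φ = ((3 : ℤ) ^ (2 * m + 1)) ^ 2 * nz)
    (hφt : (t : ℤ) * φ ^ 2 ≤ ((3 : ℤ) ^ (2 * m + 1)) ^ 3)
    (hez' : (e : ℤ) = φ' + (k' : ℤ) * z') (hφ't : (t : ℤ) * φ' ^ 2 ≤ 4)
    (hez : (e : ℤ) = δ * (u + 6) + (k : ℤ) * z)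
    (hF0n : 0 ≤ F0) (hFt : (t : ℝ) * F0 ^ 2 ≤ ((3 : ℝ) ^ (2 * m + 1)) ^ 3) :
    ∃ Q F : ℝ, ((3 : ℝ) ^ (2 * m + 1)) ^ 3 ≤ Q ^ 2 ∧ 0 ≤ Q ∧ F0 ≤ F ∧
      ((4 + 2 * u - (t : ℤ) * u ^ 2 : ℤ) : ℝ) * Q / (((3 : ℝ) ^ (2 * m + 1)) ^ 2 - (3 : ℝ) ^ (2 * m + 1) + 1) +
        Q / ((3 : ℝ) ^ (2 * m + 1)) ^ 3 +
        ((k : ℝ) - ((6 + 2 * u - (t : ℤ) * u ^ 2 : ℤ) : ℝ)) * F / e < 1 := by
  have he1 : 0 < e := by omega
  have he0 : (0 : ℝ) < e := by exact_mod_cast he1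
  have hk6 : (k : ℝ) = 6 * t + 1 := by exact_mod_cast hk
  have hhalfq : 3 ^ (2 * m + 1) = 3 * (3 ^ m) ^ 2 := by ring
  have hqR : (3 : ℝ) ^ (2 * m + 1) = 3 * ((3 : ℝ) ^ m) ^ 2 := by ring
  have hqZ : (3 : ℤ) ^ (2 * m + 1) = 3 * ((3 : ℤ) ^ m) ^ 2 := by ring
  by_cases hm2 : 2 ≤ m
  · -- `q ≥ 243`
    set s := 3 ^ m with hs
    have hs9 : 9 ≤ s := le_trans (by norm_num) (Nat.pow_le_pow_right (by norm_num) hm2 : 3 ^ 2 ≤ 3 ^ m)
    have hsZ : (3 : ℤ) ^ m = (s : ℤ) := by rw [hs]; push_cast; rfl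
    have hsR : (3 : ℝ) ^ m = (s : ℝ) := by rw [hs]; push_cast; rfl
    have hs9' : (9 : ℤ) ≤ s := by exact_mod_cast hs9
    have hcard : (k : ℤ) = 6 * t + 1 := by exact_mod_cast hk
    rw [hsZ] at hkA hkA' hqZ
    have ht6 : 6 * (t : ℤ) ≥ 3 * (s : ℤ) ^ 2 - 3 * s ∧ 6 * (t : ℤ) ≤ 3 * (s : ℤ) ^ 2 + 3 * s := by
      rcases hε with rfl | rfl <;> constructor <;> linarith
    have ht36 : 36 ≤ t := by
      have h243 : 216 ≤ 3 * (s : ℤ) ^ 2 - 3 * s := by nlinarith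
      omega
    have hu0 : u = 0 := hu.resolve_right fun h => by omega
    have hφ'0 : φ' = 0 := by
      by_contra hne
      have h1 : 1 ≤ φ' ^ 2 := by nlinarith [Int.one_le_abs hne, sq_abs φ']
      have h2 : (36 : ℤ) ≤ t := by exact_mod_cast ht36
      nlinarith
    subst hu0
    have hk'e : k' ∣ e := Int.natCast_dvd_natCast.1 ⟨z', by rw [hez', hφ'0, zero_add]⟩
    have hbig := two_e_ge (φ := φ) (n := nz) hs9 (by omega) hε hkA' (hhalfq ▸ hcop)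
      ((show Odd 3 from ⟨1, rfl⟩).pow) (hhalfq ▸ hhalf) hk'e (by rw [hphi, hqZ]) ht6.1 (by rwa [hqZ] at hφt)
    have hk'ge : 3 * (s : ℤ) ^ 2 - 3 * s + 1 ≤ k' := by rcases hε with rfl | rfl <;> linarith
    have hbigR : (s : ℝ) * (3 * (s : ℝ) ^ 2 - 1) * (3 * (s : ℝ) ^ 2 - 3 * s + 1) ≤ 2 * (e : ℝ) := by
      have : (s : ℤ) * (3 * (s : ℤ) ^ 2 - 1) * (3 * (s : ℤ) ^ 2 - 3 * s + 1) ≤ 2 * (e : ℤ) :=
        le_trans (mul_le_mul_of_nonneg_left hk'ge (mul_nonneg (by linarith) (by nlinarith))) hbig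
      exact_mod_cast this
    rw [hqR, hsR] at hFt ⊢
    have htR : 6 * (t : ℝ) ≤ 3 * (s : ℝ) ^ 2 + 3 * s := by exact_mod_cast ht6.2
    refine ⟨5.2 * (s : ℝ) ^ 3, F0, ?_, by positivity, le_rfl, ?_⟩
    · nlinarith [pow_nonneg (show (0 : ℝ) ≤ s by positivity) 6]
    · have h := final_bound (W := (k : ℝ) - 6) (F := F0) (e := e) (t := t) hs9
        (by rw [hk6]; nlinarith [(show (36 : ℝ) ≤ t by exact_mod_cast ht36)])
        (by rw [hk6]; linarith) hF0n hFt htR hbigR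
      refine lt_of_eq_of_lt ?_ h
      push_cast
      ring
  · -- `q = 27`
    obtain rfl : m = 1 := by omega
    norm_num at hqZ hkA hkA' hcop hhalf hde hphi hφt hFt
    have hcard : (k : ℤ) = 6 * t + 1 := by exact_mod_cast hk
    rcases hε with rfl | rfl
    · -- order 19
      obtain rfl : t = 3 := by omega
      have hφ'1 : φ' ^ 2 ≤ 1 := by push_cast at hφ't; nlinarith
      obtain rfl : k' = 37 := by omega
      have h9399 := e_ge_nineteen (φ := φ) (n := nz) (b := δ * (u + 6)) (z := z) (φ' := φ') (z' := z')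
        hde hhalf hphi (by push_cast at hφt; linarith) (by rw [hez, hcard]; ring)
        (by rcases hu with rfl | ⟨rfl, -⟩ <;> rcases hδ with hd | hd <;> rw [hd] <;> norm_num)
        (by rw [hez']; push_cast; ring) hφ'1
      have heR : (9399 : ℝ) ≤ e := by exact_mod_cast h9399
      have hF81 : F0 ≤ 81 := by push_cast at hFt; nlinarith [hF0n]
      refine ⟨141, 81, by norm_num, by norm_num, hF81, ?_⟩
      rcases hu with rfl | ⟨rfl, -⟩
      · have : (13 : ℝ) * 81 / e ≤ 0.12 := by rw [div_le_iff₀ he0]; linarith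
        rw [hk6]; norm_num at this ⊢; linarith
      · have : (14 : ℝ) * 81 / e ≤ 0.13 := by rw [div_le_iff₀ he0]; linarith
        rw [hk6]; norm_num at this ⊢; linarith
    · -- order 37
      obtain rfl : t = 6 := by omega
      have hφ'0 : φ' = 0 := by
        by_contra hne
        have h1 : 1 ≤ φ' ^ 2 := by nlinarith [Int.one_le_abs hne, sq_abs φ']
        push_cast at hφ't
        linarith
      obtain rfl : k' = 19 := by omega
      have h19 : 19 ∣ e := Int.natCast_dvd_natCast.1 ⟨z', by rw [hez', hφ'0, zero_add]⟩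
      have h9600 := e_ge_thirty_seven (φ := φ) (n := nz) (b := δ * (u + 6)) (z := z)
        hde hhalf h19 hphi (by push_cast at hφt; linarith) (by rw [hez, hcard]; ring)
        (by rcases hu with rfl | ⟨rfl, -⟩ <;> rcases hδ with hd | hd <;> rw [hd] <;> norm_num)
      have heR : (9600 : ℝ) ≤ e := by exact_mod_cast h9600
      have hF58 : F0 ≤ 58 := by push_cast at hFt; nlinarith [hF0n]
      refine ⟨141, 58, by norm_num, by norm_num, hF58, ?_⟩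
      rcases hu with rfl | ⟨rfl, -⟩
      · have : (31 : ℝ) * 58 / e ≤ 0.1873 := by rw [div_le_iff₀ he0]; linarith
        rw [hk6]; norm_num at this ⊢; linarith
      · have : (35 : ℝ) * 58 / e ≤ 0.22 := by rw [div_le_iff₀ he0]; linarith
        rw [hk6]; norm_num at this ⊢; linarith

end Cfsg.Agent.ReeCover
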