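import Cfsg.Agent.Lib.ReeTori.Aut
import Cfsg.Agent.Lib.ReeTori.MinDegree
import Cfsg.Agent.Lib.PSL2.Centralizers

/-!
# Centralisers and classes of the 3-elements of a small Ree group

* `exists_setting` : local data with `P = U¹`
* `order_three_cases` : an element of order 3 commutes with an involution or is conjugate to a central element
* `zc_conj` : the non-trivial central elements of `U¹` form one class
* `centralizer_le_cube`, `g_cases` : centraliser bounds
-/

set_option autoImplicit false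
set_option linter.unusedSectionVars false

namespace Cfsg.Agent.ReeCover

open Cfsg.Lie Subgroup
open Cfsg.Agent.ReeTori Cfsg.Agent.Twisted
open scoped Pointwise

section general

variable {G : Type*} [Group G] [Finite G]

theorem card_centralizer_conj (h g : G) :
    Nat.card (centralizer ({h * g * h⁻¹} : Set G)) = Nat.card (centralizer ({g} : Set G)) := by
  rw [centralizer_conj, card_map_of_injective (MulEquiv.injective _)]

theorem card_centralizer_le_orbit {g : G} {N : Subgroup G} (hle : centralizer ({g} : Set G) ≤ N)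
    {ι : Type*} [Finite ι] (f : ι → G) (hf : ∀ i, f i ∈ N)
    (hinj : Function.Injective fun i => f i * g * (f i)⁻¹) :
    Nat.card ι * Nat.card (centralizer ({g} : Set G)) ≤ Nat.card N := by
  rw [← Nat.card_prod]
  refine Nat.card_le_card_of_injective
    (fun x => (⟨f x.1 * x.2, N.mul_mem (hf x.1) (hle x.2.2)⟩ : N)) ?_
  rintro ⟨i, c⟩ ⟨j, d⟩ h
  have h' : f i * (c : G) = f j * d := congrArg Subtype.val h
  have hc := mem_centralizer_singleton_iff.1 c.2
  have hd := mem_centralizer_singleton_iff.1 d.2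
  have e1 : f i * g * (f i)⁻¹ = (f i * c) * g * (f i * c)⁻¹ := by
    calc f i * g * (f i)⁻¹ = f i * (g * c) * ((c : G)⁻¹ * (f i)⁻¹) := by group
      _ = _ := by rw [← hc, mul_inv_rev]; group
  have e2 : f j * g * (f j)⁻¹ = (f j * d) * g * (f j * d)⁻¹ := by
    calc f j * g * (f j)⁻¹ = f j * (g * d) * ((d : G)⁻¹ * (f j)⁻¹) := by group
      _ = _ := by rw [← hd, mul_inv_rev]; group
  have hij : i = j := hinj (by show f i * g * (f i)⁻¹ = f j * g * (f j)⁻¹; rw [e1, e2, h'])
  subst hij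
  exact Prod.ext rfl (Subtype.ext (mul_left_cancel h'))

end general

variable {K : Type*} [Field K] [Fintype K] [CharP K 3] {m : ℕ}
  (hK : Fintype.card K = 3 ^ (2 * m + 1))

include hK in
theorem exists_setting (hm : 1 ≤ m) :
    ∃ D : Data ↥(foldK K m).fix (PSL2.PSL2 K) (3 ^ (2 * m + 1)),
      (D.P : Subgroup ↥(foldK K m).fix) = (foldK K m).U1.subgroupOf (foldK K m).fix := by
  obtain ⟨h₀, hh₀, hf, -⟩ := exists_m0 hK
  obtain ⟨D, hD, -, -⟩ := exists_data' hK hm hh₀ hf
  exact ⟨D, hD⟩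

/-- The centre of `U¹`. -/
noncomputable def zc (v : K) : ↥(foldK K m).fix := xU hK 0 0 v

theorem zc_add (v w : K) : zc hK (v + w) = zc hK v * zc hK w := by
  rw [zc, zc, zc, xU_mul]
  congr 1 <;> ring

theorem zc_zero : zc hK (0 : K) = 1 := xU_zero hK

theorem zc_inj {v w : K} (h : zc hK v = zc hK w) : v = w := (xU_inj hK h).2.2

theorem zc_conj {v w : K} (hv : v ≠ 0) (hw : w ≠ 0) : IsConj (zc hK v) (zc hK w) := by
  obtain ⟨s, hs⟩ := (Finite.injective_iff_surjective.1 (pow_tor_injective hK))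
    (Units.mk0 w hw / Units.mk0 v hv)
  refine isConj_iff.2 ⟨dH hK s, ?_⟩
  have hs' : (s : K) ^ (3 * 3 ^ m + 2) = w / v := by
    rw [← Units.val_pow_eq_pow_val]
    show ((fun s : Kˣ => s ^ (3 * 3 ^ m + 2)) s : K) = _
    rw [hs]
    simp
  rw [zc, zc, dH_conj, mul_zero, mul_zero, hs', div_mul_cancel₀ _ hv]

theorem xU_conj (t u v : K) :
    xU hK t 0 0 * xU hK 0 u v * (xU hK t 0 0)⁻¹ = xU hK 0 u (v + t * u) := by
  rw [mul_inv_eq_iff_eq_mul, xU_mul, xU_mul]
  congr 1 <;> ring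

theorem xU_inv_zero (u v : K) : (xU hK 0 u v)⁻¹ = xU hK 0 (-u) (-v) := by
  refine inv_eq_of_mul_eq_one_right ?_
  rw [xU_mul, ← xU_zero hK]
  congr 1 <;> ring

theorem xU_conj_second (u' t u v : K) :
    xU hK 0 u' 0 * xU hK t u v * (xU hK 0 u' 0)⁻¹ = xU hK t u (v - t * u') := by
  rw [mul_inv_eq_iff_eq_mul, xU_mul, xU_mul]
  congr 1 <;> ring

theorem orderOf_dH_neg_one : orderOf (dH hK (-1 : Kˣ)) = 2 := by
  refine orderOf_eq_prime ?_ fun h => ?_
  · rw [pow_two, ← dH_mul]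
    exact Subtype.ext (by
      show tor m ((-1 : Kˣ) * -1) = 1
      rw [neg_mul_neg, one_mul, tor_one])
  · have h' : ((-1 : Kˣ) : K) = 1 := congrArg Units.val (tor_injective
      ((congrArg Subtype.val h).trans (tor_one (K := K) (m := m)).symm))
    rw [Units.val_neg, Units.val_one] at h'
    exact one_ne_zero (α := K) (by linear_combination h' + three_eq_zero K)

theorem dH_neg_one_comm (u : K) : dH hK (-1 : Kˣ) * xU hK 0 u 0 = xU hK 0 u 0 * dH hK (-1 : Kˣ) := by
  have he : Even (3 * 3 ^ m + 1) :=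
    ((show Odd 3 from ⟨1, rfl⟩).mul ((show Odd 3 from ⟨1, rfl⟩).pow)).add_one
  rw [← mul_inv_eq_iff_eq_mul, dH_conj, mul_zero, mul_zero, Units.val_neg, Units.val_one,
    he.neg_one_pow, one_mul]

variable (D : Data ↥(foldK K m).fix (PSL2.PSL2 K) (3 ^ (2 * m + 1)))
  (hP : (D.P : Subgroup ↥(foldK K m).fix) = (foldK K m).U1.subgroupOf (foldK K m).fix)
include hK D hP

theorem xU_mem (t u v : K) : xU hK t u v ∈ (D.P : Subgroup ↥(foldK K m).fix) :=
  hP.ge ((mem_U_iff hK).2 ⟨t, u, v, rfl⟩)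

theorem exists_conj_xU {g : ↥(foldK K m).fix} {k : ℕ} (hg : orderOf g = 3 ^ k) :
    ∃ h t u v, h * g * h⁻¹ = xU hK t u v := by
  haveI : Fact (Nat.Prime 3) := ⟨Nat.prime_three⟩
  obtain ⟨S, hS⟩ := (IsPGroup.of_card (n := k) (by rw [Nat.card_zpowers, hg]) :
    IsPGroup 3 (zpowers g)).exists_le_sylow
  obtain ⟨y, hy⟩ := MulAction.exists_smul_eq ↥(foldK K m).fix S D.P
  have : y * g * y⁻¹ ∈ (D.P : Subgroup ↥(foldK K m).fix) := by
    rw [← hy, Sylow.coe_subgroup_smul]; exact ⟨g, hS (mem_zpowers g), rfl⟩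
  obtain ⟨t, u, v, h⟩ := (mem_U_iff hK).1 (hP.le this)
  exact ⟨y, t, u, v, h⟩

theorem order_three_cases {g : ↥(foldK K m).fix} (hg : orderOf g = 3) :
    (∃ t, orderOf t = 2 ∧ g * t = t * g) ∨ ∃ v : K, v ≠ 0 ∧ IsConj (zc hK v) g := by
  obtain ⟨h, t, u, v, he⟩ := exists_conj_xU hK D hP (k := 1) (by rw [hg, pow_one])
  have ht : t = 0 := by
    rw [← xU_cube_iff hK t u v, ← he, conj_pow, show g ^ 3 = 1 by rw [← hg, pow_orderOf_eq_one],
      mul_one, mul_inv_cancel]
  subst ht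
  by_cases hu : u = 0
  · subst hu
    refine Or.inr ⟨v, fun hv => ?_, isConj_iff.2 ⟨h⁻¹, by rw [zc, ← he]; group⟩⟩
    subst hv
    rw [xU_zero, conj_eq_one_iff] at he
    rw [he, orderOf_one] at hg
    omega
  · left
    set c := xU hK (-v / u) 0 0 * h with hc
    have hcg : c * g * c⁻¹ = xU hK 0 u 0 := by
      rw [hc, show xU hK (-v / u) 0 0 * h * g * (xU hK (-v / u) 0 0 * h)⁻¹ =
        xU hK (-v / u) 0 0 * (h * g * h⁻¹) * (xU hK (-v / u) 0 0)⁻¹ by group, he, xU_conj,
        div_mul_cancel₀ _ hu, add_neg_cancel]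
    refine ⟨c⁻¹ * dH hK (-1 : Kˣ) * c, ?_, ?_⟩
    · have := orderOf_conj c⁻¹ (dH hK (-1 : Kˣ))
      rw [inv_inv] at this
      rw [this, orderOf_dH_neg_one]
    · have hh := dH_neg_one_comm hK u
      rw [← hcg] at hh
      calc g * (c⁻¹ * dH hK (-1 : Kˣ) * c)
          = c⁻¹ * ((c * g * c⁻¹) * dH hK (-1 : Kˣ)) * c := by group
        _ = c⁻¹ * (dH hK (-1 : Kˣ) * (c * g * c⁻¹)) * c := by rw [hh]
        _ = _ := by group

theorem card_N_P : Nat.card (normalizer ((D.P : Subgroup ↥(foldK K m).fix) : Set ↥(foldK K m).fix)) =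
    (3 ^ (2 * m + 1)) ^ 3 * (3 ^ (2 * m + 1) - 1) := D.sylow_regular.2.2

theorem dH_mem_N (s : Kˣ) :
    dH hK s ∈ normalizer ((D.P : Subgroup ↥(foldK K m).fix) : Set ↥(foldK K m).fix) := by
  refine Subgroup.mem_normalizer_fintype fun x hx => ?_
  obtain ⟨t, u, v, rfl⟩ := (mem_U_iff hK).1 (hP.le hx)
  show dH hK s * xU hK t u v * (dH hK s)⁻¹ ∈ (D.P : Subgroup ↥(foldK K m).fix)
  rw [dH_conj]
  exact xU_mem hK D hP _ _ _

theorem xU_mem_N (t u v : K) :
    xU hK t u v ∈ normalizer ((D.P : Subgroup ↥(foldK K m).fix) : Set ↥(foldK K m).fix) :=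
  le_normalizer (xU_mem hK D hP t u v)

theorem cent_le_N {t u v : K} (h : xU hK t u v ≠ 1) :
    centralizer ({xU hK t u v} : Set ↥(foldK K m).fix) ≤
      normalizer ((D.P : Subgroup ↥(foldK K m).fix) : Set ↥(foldK K m).fix) := fun _ hc =>
  D.centralizer_three (xU_mem hK D hP t u v) h (mem_centralizer_singleton_iff.1 hc)

theorem centralizer_three_le {g : ↥(foldK K m).fix} (hg : orderOf g = 3) :
    Nat.card (centralizer ({g} : Set ↥(foldK K m).fix)) ≤ (3 ^ (2 * m + 1)) ^ 3 := by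
  obtain ⟨h, t, u, v, he⟩ := exists_conj_xU hK D hP (k := 1) (by rw [hg, pow_one])
  have ht : t = 0 := by
    rw [← xU_cube_iff hK t u v, ← he, conj_pow, show g ^ 3 = 1 by rw [← hg, pow_orderOf_eq_one],
      mul_one, mul_inv_cancel]
  subst ht
  have hne : xU hK 0 u v ≠ 1 := fun e => by
    rw [← he, conj_eq_one_iff] at e
    rw [e, orderOf_one] at hg
    omega
  rw [← card_centralizer_conj h g, he]
  have hK' : Nat.card K = 3 ^ (2 * m + 1) := by rw [Nat.card_eq_fintype_card, hK]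
  have hKu : Nat.card Kˣ = 3 ^ (2 * m + 1) - 1 := by rw [Nat.card_units, hK']
  have hN := card_N_P hK D hP
  have hpos : 0 < 3 ^ (2 * m + 1) - 1 := by
    have : 1 < 3 ^ (2 * m + 1) := Nat.one_lt_pow (by omega) (by norm_num)
    omega
  by_cases hu : u = 0
  · subst hu
    have hv : v ≠ 0 := fun e => hne (by rw [e]; exact xU_zero hK)
    have h1 := card_centralizer_le_orbit (cent_le_N hK D hP hne) (fun s : Kˣ => dH hK s)
      (dH_mem_N hK D hP) (fun s s' e => by
        simp only [dH_conj] at e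
        have e3 := (xU_inj hK e).2.2
        have e4 := mul_right_cancel₀ hv e3
        refine pow_tor_injective hK (Units.ext ?_)
        simpa using e4)
    rw [hKu, hN, mul_comm (_ ^ 3)] at h1
    exact Nat.le_of_mul_le_mul_left h1 hpos
  · have h1 := card_centralizer_le_orbit (cent_le_N hK D hP hne) (fun s : K => xU hK s 0 0)
      (fun s => xU_mem_N hK D hP _ _ _) (fun s s' e => by
        simp only [xU_conj] at e
        exact mul_right_cancel₀ hu (add_left_cancel (xU_inj hK e).2.2))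
    rw [hK', hN] at h1
    refine Nat.le_of_mul_le_mul_left (le_trans ?_ (h1.trans ?_)) (pow_pos (show 0 < 3 by norm_num) (2 * m + 1))
    · exact le_rfl
    · rw [mul_comm]
      exact Nat.mul_le_mul_right _ (Nat.sub_le _ _)

theorem centralizer_nine_le {g : ↥(foldK K m).fix} (hg : orderOf g = 9) :
    Nat.card (centralizer ({g} : Set ↥(foldK K m).fix)) ≤ (3 ^ (2 * m + 1)) ^ 2 := by
  obtain ⟨h, t, u, v, he⟩ := exists_conj_xU hK D hP (k := 2) (by rw [hg]; norm_num)
  have ht : t ≠ 0 := by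
    intro ht
    have h3 := (xU_cube_iff hK t u v).2 ht
    rw [← he, conj_pow, conj_eq_one_iff] at h3
    have := orderOf_dvd_of_pow_eq_one h3
    rw [hg] at this
    norm_num at this
  have hne : xU hK t u v ≠ 1 := fun e => ht (xU_inj hK (e.trans (xU_zero hK).symm)).1
  rw [← card_centralizer_conj h g, he]
  have hK' : Nat.card K = 3 ^ (2 * m + 1) := by rw [Nat.card_eq_fintype_card, hK]
  have hN := card_N_P hK D hP
  have h1 := card_centralizer_le_orbit (cent_le_N hK D hP hne)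
    (fun x : Kˣ × K => dH hK x.1 * xU hK 0 x.2 0)
    (fun x => mul_mem (dH_mem_N hK D hP _) (xU_mem_N hK D hP _ _ _)) (fun x y e => by
      have key : ∀ x : Kˣ × K,
          dH hK x.1 * xU hK 0 x.2 0 * xU hK t u v * (dH hK x.1 * xU hK 0 x.2 0)⁻¹ =
            xU hK ((x.1 : K) * t) ((x.1 : K) ^ (3 * 3 ^ m + 1) * u)
              ((x.1 : K) ^ (3 * 3 ^ m + 2) * (v - t * x.2)) := fun x => by
        rw [← dH_conj, ← xU_conj_second]
        group
      simp only [key] at e
      obtain ⟨e1, -, e3⟩ := xU_inj hK e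
      have hs : x.1 = y.1 := Units.ext (mul_right_cancel₀ ht e1)
      rw [hs] at e3
      have e4 := sub_right_injective (mul_left_cancel₀ (pow_ne_zero _ y.1.ne_zero) e3)
      exact Prod.ext hs (mul_left_cancel₀ ht e4))
  rw [Nat.card_prod, Nat.card_units, hK', hN] at h1
  have hpos : 0 < (3 ^ (2 * m + 1) - 1) * 3 ^ (2 * m + 1) := by
    have : 1 < 3 ^ (2 * m + 1) := Nat.one_lt_pow (by omega) (by norm_num)
    exact Nat.mul_pos (by omega) (by omega)
  refine Nat.le_of_mul_le_mul_left (h1.trans (le_of_eq ?_)) hpos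
  ring

omit hK hP in
theorem centralizer_six_le {g : ↥(foldK K m).fix} (hg : orderOf g = 6)
    (hq : Nat.card K = 3 ^ (2 * m + 1)) :
    Nat.card (centralizer ({g} : Set ↥(foldK K m).fix)) ≤ 2 * 3 ^ (2 * m + 1) := by
  classical
  haveI : Fact (Nat.Prime 3) := ⟨Nat.prime_three⟩
  have ht : orderOf (g ^ 3) = 2 := by rw [orderOf_pow_of_dvd (by norm_num) (hg ▸ by norm_num), hg]
  obtain ⟨c, hc⟩ := isConj_iff.1 (D.isConj_a ht).symm
  rw [← card_centralizer_conj c g]
  obtain ⟨ι, hinj, hcomm, hdec, hne⟩ := D.exists_emb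
  set g' := c * g * c⁻¹ with hg'
  have ha : g' ^ 3 = D.a := by rw [hg', conj_pow, hc]
  have hu : orderOf (g' ^ 2) = 3 := by
    rw [orderOf_pow_of_dvd (by norm_num) (by rw [hg', orderOf_conj, hg]; norm_num), hg', orderOf_conj, hg]
  obtain ⟨l, hl⟩ := D.mem_range_of_odd hcomm hdec hne (g := g' ^ 2)
    (by rw [← ha, ← pow_add, ← pow_add]) (hu ▸ by decide)
  have hlo : orderOf l = 3 := by rw [← orderOf_injective ι hinj, ← hl, hu]
  have key : ∀ z : centralizer ({g'} : Set ↥(foldK K m).fix),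
      ∃ y : Bool × centralizer ({l} : Set (PSL2.PSL2 K)),
        (z : ↥(foldK K m).fix) = (if y.1 then D.a else 1) * ι y.2 := by
    intro z
    have hz : Commute (z : ↥(foldK K m).fix) g' := mem_centralizer_singleton_iff.1 z.2
    have hza : (z : ↥(foldK K m).fix) * D.a = D.a * z := by
      rw [← ha]; exact (hz.pow_right 3).eq
    have hzu : (z : ↥(foldK K m).fix) * ι l = ι l * z := by
      rw [← hl]; exact (hz.pow_right 2).eq
    obtain ⟨y, hy | hy⟩ := hdec _ hza
    · refine ⟨(false, ⟨y, mem_centralizer_singleton_iff.2 (hinj ?_)⟩), by simpa using hy⟩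
      rw [hy] at hzu
      simpa using hzu
    · refine ⟨(true, ⟨y, mem_centralizer_singleton_iff.2 (hinj ?_)⟩), by simpa using hy⟩
      rw [hy, mul_assoc, ← mul_assoc (ι l), hcomm l, mul_assoc] at hzu
      simpa using mul_left_cancel hzu
  choose f hf using key
  have hfi : Function.Injective f := fun z z' e => Subtype.ext (by rw [hf z, hf z', e])
  refine (Nat.card_le_card_of_injective f hfi).trans (le_of_eq ?_)
  rw [Nat.card_prod, PSL2.card_centralizer_char 3 hlo, hq, Nat.card_eq_fintype_card, Fintype.card_bool]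

theorem g_cases {g : ↥(foldK K m).fix} (hg : g ≠ 1) :
    orderOf g = 2 ∨ orderOf g = 3 ∨
      (orderOf g = 9 ∧ Nat.card (centralizer ({g} : Set ↥(foldK K m).fix)) ≤ (3 ^ (2 * m + 1)) ^ 2) ∨
      (orderOf g ≠ 9 ∧ Nat.card (centralizer ({g} : Set ↥(foldK K m).fix)) ≤ 2 * 3 ^ (2 * m + 1)) := by
  have hK' : Nat.card K = 3 ^ (2 * m + 1) := by rw [Nat.card_eq_fintype_card, hK]
  obtain ⟨hq27, -, -⟩ := D.q_facts
  obtain ⟨n1, n2⟩ := D.not_three_dvd
  rcases D.classify g with h | h | h | h | h | ⟨h3, hd, x, hx⟩ | ⟨h3, hd⟩ | ⟨h1, p, z, hp, hpQ, hz, hgz⟩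
  · exact absurd (orderOf_eq_one_iff.1 h) hg
  · exact Or.inl h
  · exact Or.inr (Or.inl h)
  · exact Or.inr (Or.inr (Or.inr ⟨by omega, centralizer_six_le D h hK'⟩))
  · exact Or.inr (Or.inr (Or.inl ⟨h, centralizer_nine_le hK D hP h⟩))
  · refine Or.inr (Or.inr (Or.inr ⟨fun e => n1 (dvd_trans (by norm_num) (e ▸ hd)), ?_⟩))
    have ho : 3 ≤ orderOf (x * g * x⁻¹) := by rwa [orderOf_conj]
    rw [← card_centralizer_conj x g, D.centralizer_H hx (Data.sq_ne_one D ho), D.H_card]
    omega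
  · obtain ⟨T, E, Y, hT⟩ := D.exists_torus
    obtain ⟨x, hx⟩ := D.exists_conj_T_type hT h3 hd
    refine Or.inr (Or.inr (Or.inr ⟨fun e => n2 (dvd_trans (by norm_num) (e ▸ hd)), ?_⟩))
    have ho : 3 ≤ orderOf (x * g * x⁻¹) := by rwa [orderOf_conj]
    rw [← card_centralizer_conj x g, hT.centralizer_torus hx (Data.sq_ne_one D ho), hT.card]
    omega
  · refine Or.inr (Or.inr (Or.inr ⟨fun e => ?_, ?_⟩))
    · exact ((D.exclusive h1).2 ((orderOf_dvd_natCard _ hgz).trans (D.regular hp hpQ hz).2.1)).2.2.2.2.2 e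
    · rw [(D.regular hp hpQ hz).2.2.1 g hgz hg]
      set r := 3 ^ (m + 1) with hr
      have hrr : r * r = 3 * 3 ^ (2 * m + 1) := by rw [hr, ← pow_add, ← pow_succ']; ring_nf
      obtain ⟨-, -, hall⟩ := D.exists_regular hrr
      have hrq : 3 * r ≤ 3 ^ (2 * m + 1) := by
        obtain ⟨m', hm', hq'⟩ := D.q_pow
        have : m' = m := by
          have := Nat.pow_right_injective (le_refl 2 |>.trans (by norm_num)) hq'
          omega
        subst this
        rw [hr, ← pow_succ']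
        exact Nat.pow_le_pow_right (by norm_num) (by omega)
      rcases (hall _ ⟨p, z, hp, hpQ, hz, rfl⟩).1 with e | e <;> rw [e] <;> omega

theorem centralizer_le_cube {g : ↥(foldK K m).fix} (hg : g ≠ 1) :
    Nat.card (centralizer ({g} : Set ↥(foldK K m).fix)) ≤ (3 ^ (2 * m + 1)) ^ 3 := by
  obtain ⟨hq27, -, -⟩ := D.q_facts
  have h1 : 1 ≤ 3 ^ (2 * m + 1) := Nat.one_le_pow _ _ (by norm_num)
  rcases g_cases hK D hP hg with h | h | ⟨-, h⟩ | ⟨-, h⟩
  · obtain ⟨c, hc⟩ := isConj_iff.1 (D.isConj_a h).symm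
    rw [← card_centralizer_conj c g, hc, D.card_centralizer_a, pow_succ' _ 2]
    refine Nat.mul_le_mul_left _ ?_
    rw [← Nat.sq_sub_sq, one_pow]
    exact Nat.sub_le _ _
  · exact centralizer_three_le hK D hP h
  · exact h.trans (Nat.pow_le_pow_right (by omega) (by norm_num))
  · refine h.trans ?_
    rw [pow_succ]
    exact Nat.mul_le_mul_right _ (le_trans (show 2 ≤ 3 ^ (2 * m + 1) by omega) (Nat.le_self_pow (by norm_num) _))

end Cfsg.Agent.ReeCover
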