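import Cfsg.Agent.Lib.ReeCover.Steinberg

/-!
# Character values on the centre of `U¹`

* `zc_value` : one value on `Z#`
* `exists_nat_sum_zc` : the sum over `Z` is a multiple of `q`
* `exists_nat_sub_zc` : degree minus value is a multiple of `q²`
-/

set_option autoImplicit false
set_option linter.unusedSectionVars false

namespace Cfsg.Agent.ReeCover

open Cfsg Cfsg.Lie Subgroup
open Cfsg.Agent.ReeTori Cfsg.Agent.Twisted
open scoped ComplexConjugate

variable {K : Type*} [Field K] [Fintype K] [CharP K 3] {m : ℕ}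
  (hK : Fintype.card K = 3 ^ (2 * m + 1))

include hK

theorem zc_value (χ : IrrCharacter ↥(foldK K m).fix) {v : K} (hv : v ≠ 0) :
    (χ : ↥(foldK K m).fix → ℂ) (zc hK v) = (χ : ↥(foldK K m).fix → ℂ) (zc hK 1) := by
  obtain ⟨c, hc⟩ := isConj_iff.1 (zc_conj hK (one_ne_zero (α := K)) hv)
  rw [← hc, Char.IsIrrCharacter.isClassFunction χ.2]

theorem sum_zc (χ : IrrCharacter ↥(foldK K m).fix) :
    ∑ v : K, (χ : ↥(foldK K m).fix → ℂ) (zc hK v) = (χ : ↥(foldK K m).fix → ℂ) 1 +
      ((3 : ℂ) ^ (2 * m + 1) - 1) * (χ : ↥(foldK K m).fix → ℂ) (zc hK 1) := by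
  classical
  rw [Fintype.sum_eq_add_sum_compl (0 : K), zc_zero, Finset.sum_congr rfl
    (fun v hv => zc_value hK χ (by simpa using hv)), Finset.sum_const, nsmul_eq_mul]
  congr 2
  rw [Finset.card_compl, Finset.card_singleton, Nat.cast_sub Fintype.card_pos, hK]
  push_cast
  rfl

theorem exists_nat_sum_zc (χ : IrrCharacter ↥(foldK K m).fix) :
    ∃ d : ℕ, ∑ v : K, (χ : ↥(foldK K m).fix → ℂ) (zc hK v) = (3 : ℂ) ^ (2 * m + 1) * d := by
  classical
  let f : Multiplicative K →* ↥(foldK K m).fix :=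
    { toFun := fun w => zc hK w.toAdd
      map_one' := zc_zero hK
      map_mul' := fun a b => zc_add hK a.toAdd b.toAdd }
  obtain ⟨d, hd⟩ := Char.IsCharacter.classInner_nat
    (Char.IsCharacter.comp_hom (Char.IsIrrCharacter.isCharacter χ.2) f) Char.isCharacter_one
  refine ⟨d, ?_⟩
  rw [← hd, show (3 : ℂ) ^ (2 * m + 1) = (Nat.card (Multiplicative K) : ℂ) by
    rw [Nat.card_eq_fintype_card, Fintype.card_multiplicative, hK]; push_cast; rfl,
    Char.card_mul_classInner]
  refine Fintype.sum_equiv Multiplicative.ofAdd _ _ fun v => ?_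
  show _ = (χ : ↥(foldK K m).fix → ℂ) (zc hK v) * conj ((1 : Multiplicative K → ℂ) _)
  simp

theorem exists_nat_sub_zc (χ : IrrCharacter ↥(foldK K m).fix) :
    ∃ n : ℕ, (χ : ↥(foldK K m).fix → ℂ) 1 - (χ : ↥(foldK K m).fix → ℂ) (zc hK 1) =
      ((3 : ℂ) ^ (2 * m + 1)) ^ 2 * n := by
  classical
  obtain ⟨ψ, hψ⟩ : ∃ ψ : AddChar K ℂ, ψ ≠ 1 := by
    have : 1 < Fintype.card (AddChar K ℂ) := by rw [AddChar.card_eq]; exact Fintype.one_lt_card
    exact Fintype.exists_ne_of_one_lt_card this 1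
  let f : Multiplicative (K × K) →* ↥(foldK K m).fix :=
    { toFun := fun w => xU hK 0 w.toAdd.1 w.toAdd.2
      map_one' := xU_zero hK
      map_mul' := fun a b => by
        rw [xU_mul]
        congr 1 <;> simp [toAdd_mul] }
  let S : K → ℂ := fun p => ∑ w : K × K,
    (χ : ↥(foldK K m).fix → ℂ) (xU hK 0 w.1 w.2) * conj (ψ (p * w.1 + w.2))
  have hS : ∀ p, ∃ n : ℕ, S p = ((3 : ℂ) ^ (2 * m + 1)) ^ 2 * n := by
    intro p
    obtain ⟨n, hn⟩ := Char.IsCharacter.classInner_nat
      (Char.IsCharacter.comp_hom (Char.IsIrrCharacter.isCharacter χ.2) f)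
      (Char.isCharacter_of_hom (chiA K ψ (p, 1)).toMonoidHom)
    refine ⟨n, ?_⟩
    rw [← hn, show ((3 : ℂ) ^ (2 * m + 1)) ^ 2 = (Nat.card (Multiplicative (K × K)) : ℂ) by
      rw [Nat.card_eq_fintype_card, Fintype.card_multiplicative, Fintype.card_prod, hK]; push_cast; ring,
      Char.card_mul_classInner]
    refine Fintype.sum_equiv Multiplicative.ofAdd _ _ fun w => ?_
    show _ = (χ : ↥(foldK K m).fix → ℂ) (xU hK 0 w.1 w.2) * conj (chiA K ψ (p, 1) w)
    rw [chiA_apply, one_mul]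
  have hinv : ∀ p, S p = S 0 := by
    intro p
    refine (Fintype.sum_equiv
      { toFun := fun w : K × K => (w.1, w.2 + p * w.1)
        invFun := fun w => (w.1, w.2 - p * w.1)
        left_inv := fun w => by simp
        right_inv := fun w => by simp } _ _ fun w => ?_)
    show _ = (χ : ↥(foldK K m).fix → ℂ) (xU hK 0 w.1 (w.2 + p * w.1)) * conj (ψ (0 * w.1 + (w.2 + p * w.1)))
    rw [← xU_conj hK p, Char.IsIrrCharacter.isClassFunction χ.2, zero_mul, zero_add, add_comm (p * w.1)]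
  obtain ⟨n, hn⟩ := hS 0
  refine ⟨n, ?_⟩
  have hq : (Fintype.card K : ℂ) ≠ 0 := Nat.cast_ne_zero.2 Fintype.card_ne_zero
  have horth : ∀ u : K, ∑ p : K, conj (ψ (p * u)) = if u = 0 then (Fintype.card K : ℂ) else 0 := by
    intro u
    rw [← map_sum]
    by_cases hu : u = 0
    · subst hu; simp
    · rw [if_neg hu, Fintype.sum_equiv (Equiv.mulRight₀ u hu) (fun p => ψ (p * u)) ψ fun p => rfl,
        AddChar.sum_eq_zero_of_ne_one hψ, map_zero]
  have h1 : ∑ p, S p = (Fintype.card K : ℂ) *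
      ∑ v : K, (χ : ↥(foldK K m).fix → ℂ) (zc hK v) * conj (ψ v) := by
    rw [Finset.sum_comm, Fintype.sum_prod_type,
      Finset.sum_eq_single (0 : K) (fun u _ hu => ?_) (fun h => absurd (Finset.mem_univ _) h),
      Finset.mul_sum]
    · refine Finset.sum_congr rfl fun v _ => ?_
      simp [zc, Finset.card_univ]
    · refine Finset.sum_eq_zero fun v _ => ?_
      simp only [AddChar.map_add_eq_mul, map_mul]
      rw [← Finset.mul_sum, ← Finset.sum_mul, horth, if_neg hu, zero_mul, mul_zero]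
  rw [Finset.sum_congr rfl fun p _ => hinv p, Finset.sum_const, Finset.card_univ, nsmul_eq_mul, hn] at h1
  rw [mul_left_cancel₀ hq h1, Fintype.sum_eq_add_sum_compl (0 : K), zc_zero, AddChar.map_zero_eq_one,
    map_one, mul_one, Finset.sum_congr rfl (fun v hv => by
      rw [zc_value hK χ (show v ≠ 0 by simpa using hv)]), ← Finset.mul_sum]
  have h2 : ∑ v ∈ ({0} : Finset K)ᶜ, conj (ψ v) = -1 := by
    have h := Fintype.sum_eq_add_sum_compl (0 : K) (fun v => conj (ψ v))
    rw [← map_sum, AddChar.sum_eq_zero_of_ne_one hψ, map_zero, AddChar.map_zero_eq_one, map_one] at h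
    linear_combination -h
  rw [h2]
  ring

end Cfsg.Agent.ReeCover
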