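import Cfsg.Agent.Lib.ReeCover.PSL
import Cfsg.Agent.Lib.ReeCover.Zed

/-!
# Elements commuting with an involution

* `exists_normal_form`, `isConj_inv_of_comm`, `cov_of_comm` : reduction to `PSL₂(q)`
* `cov_zc` : the central elements of `U¹`
-/

set_option autoImplicit false
set_option linter.unusedSectionVars false

namespace Cfsg.Agent.ReeCover

open Cfsg Cfsg.Lie Subgroup
open Cfsg.Agent.ReeTori Cfsg.Agent.Twisted
open scoped ComplexConjugate

variable {K : Type*} [Field K] [Fintype K] [CharP K 3] {m : ℕ}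
  (hK : Fintype.card K = 3 ^ (2 * m + 1))
  (D : Data ↥(foldK K m).fix (PSL2.PSL2 K) (3 ^ (2 * m + 1)))
  (hP : (D.P : Subgroup ↥(foldK K m).fix) = (foldK K m).U1.subgroupOf (foldK K m).fix)

include hK D hP

theorem neg_one_not_square : ¬ IsSquare (-1 : K) := by
  rw [FiniteField.isSquare_neg_one_iff, hK, not_not, pow_succ, pow_mul, Nat.mul_mod, Nat.pow_mod]
  norm_num

theorem exists_normal_form {ι : PSL2.PSL2 K →* ↥(foldK K m).fix} (hinj : Function.Injective ι)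
    (hcomm : ∀ y, ι y * D.a = D.a * ι y)
    (hdec : ∀ g, g * D.a = D.a * g → ∃ y, g = ι y ∨ g = D.a * ι y)
    {x t : ↥(foldK K m).fix} (hx2 : 2 < orderOf x) (hx3 : ¬ 3 ∣ orderOf x)
    (ht : orderOf t = 2) (hxt : x * t = t * x) :
    ∃ (c ε : ↥(foldK K m).fix) (y : PSL2.PSL2 K), (ε = 1 ∨ ε = D.a) ∧ c * x * c⁻¹ = ε * ι y ∧
      ¬ orderOf y ∣ 3 ∧ y * y ≠ 1 := by
  obtain ⟨c, hc⟩ := isConj_iff.1 (D.isConj_a ht).symm
  have hca : c * x * c⁻¹ * D.a = D.a * (c * x * c⁻¹) := by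
    rw [← hc]
    calc c * x * c⁻¹ * (c * t * c⁻¹) = c * (x * t) * c⁻¹ := by group
      _ = c * (t * x) * c⁻¹ := by rw [hxt]
      _ = _ := by group
  obtain ⟨y, hy⟩ := hdec _ hca
  obtain ⟨ε, hε, he⟩ : ∃ ε, (ε = 1 ∨ ε = D.a) ∧ c * x * c⁻¹ = ε * ι y := by
    rcases hy with h | h
    · exact ⟨1, Or.inl rfl, by rw [one_mul, h]⟩
    · exact ⟨D.a, Or.inr rfl, h⟩
  have hε2 : ε ^ 2 = 1 := by rcases hε with rfl | rfl <;> simp [pow_two, D.a_sq]
  have hεc : Commute ε (ι y) := by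
    rcases hε with rfl | rfl
    · exact Commute.one_left _
    · exact (hcomm y).symm
  have ho : orderOf (ε * ι y) = orderOf x := by rw [← he, orderOf_conj]
  refine ⟨c, ε, y, hε, he, fun h3 => ?_, fun h2 => ?_⟩
  · have h6 : (ε * ι y) ^ 6 = 1 := by
      rw [hεc.mul_pow, show ε ^ 6 = (ε ^ 2) ^ 3 by rw [← pow_mul], hε2, one_pow, one_mul, ← map_pow,
        show y ^ 6 = (y ^ 3) ^ 2 by rw [← pow_mul], orderOf_dvd_iff_pow_eq_one.1 h3, one_pow, map_one]
    have hd := orderOf_dvd_of_pow_eq_one h6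
    rw [ho] at hd
    have hcop : Nat.Coprime (orderOf x) 3 := ((Nat.Prime.coprime_iff_not_dvd Nat.prime_three).2 hx3).symm
    have := Nat.le_of_dvd two_pos (hcop.dvd_of_dvd_mul_right (show orderOf x ∣ 2 * 3 by simpa using hd))
    omega
  · have h6 : (ε * ι y) ^ 2 = 1 := by
      rw [hεc.mul_pow, hε2, one_mul, ← map_pow, pow_two, h2, map_one]
    have hd := Nat.le_of_dvd two_pos (orderOf_dvd_of_pow_eq_one h6)
    omega

theorem isConj_inv_of_comm {x t : ↥(foldK K m).fix} (hx2 : 2 < orderOf x) (hx3 : ¬ 3 ∣ orderOf x)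
    (ht : orderOf t = 2) (hxt : x * t = t * x) : IsConj x x⁻¹ := by
  obtain ⟨ι, hinj, hcomm, hdec, -⟩ := D.exists_emb
  obtain ⟨c, ε, y, hε, he, hy, -⟩ := exists_normal_form hK D hP hinj hcomm hdec hx2 hx3 ht hxt
  obtain ⟨w, hw⟩ := exists_conj_inv hy
  have hxc : IsConj x (ε * ι y) := isConj_iff.2 ⟨c, he⟩
  have hεi : ε⁻¹ = ε := by
    rcases hε with rfl | rfl
    · exact inv_one
    · exact inv_eq_of_mul_eq_one_right D.a_sq
  have hεc : ∀ z, ε * ι z = ι z * ε := by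
    intro z
    rcases hε with rfl | rfl
    · simp
    · exact (hcomm z).symm
  have h2 : IsConj (ε * ι y) (ε * ι y)⁻¹ := by
    refine isConj_iff.2 ⟨ι w, ?_⟩
    calc ι w * (ε * ι y) * (ι w)⁻¹ = ε * ι (w * y * w⁻¹) := by
          rw [← mul_assoc, ← hεc, map_mul, map_mul, map_inv]; group
      _ = _ := by rw [hw, mul_inv_rev, hεi, ← map_inv]; exact hεc _
  have h3 : IsConj (ε * ι y)⁻¹ x⁻¹ := isConj_iff.2 ⟨c⁻¹, by rw [← he]; group⟩
  exact hxc.trans (h2.trans h3)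

theorem cov_of_comm {x t g s : ↥(foldK K m).fix} (hx2 : 2 < orderOf x) (hx3 : ¬ 3 ∣ orderOf x)
    (ht : orderOf t = 2) (hxt : x * t = t * x) (hg : orderOf g = 2 ∨ orderOf g = 3)
    (hs : orderOf s = 2) (hgs : g * s = s * g) : Cov x g := by
  obtain ⟨ι, hinj, hcomm, hdec, hne⟩ := D.exists_emb
  obtain ⟨c, ε, y, hε, he, hy, hy2⟩ := exists_normal_form hK D hP hinj hcomm hdec hx2 hx3 ht hxt
  obtain ⟨c', u, hu, hgu⟩ : ∃ (c' : ↥(foldK K m).fix) (u : PSL2.PSL2 K),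
      (orderOf u = 2 ∨ orderOf u = 3) ∧ c' * g * c'⁻¹ = ι u := by
    rcases hg with hg | hg
    · obtain ⟨u, hu⟩ := D.lfacts.exists_inv
      have hu' : orderOf (ι u) = 2 := by rw [orderOf_injective ι hinj, hu]
      obtain ⟨c', hc'⟩ := isConj_iff.1 ((D.isConj_a hg).symm.trans (D.isConj_a hu'))
      exact ⟨c', u, Or.inl hu, hc'⟩
    · obtain ⟨c', hc'⟩ := isConj_iff.1 (D.isConj_a hs).symm
      have hga : c' * g * c'⁻¹ * D.a = D.a * (c' * g * c'⁻¹) := by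
        rw [← hc']
        calc c' * g * c'⁻¹ * (c' * s * c'⁻¹) = c' * (g * s) * c'⁻¹ := by group
          _ = c' * (s * g) * c'⁻¹ := by rw [hgs]
          _ = _ := by group
      obtain ⟨u, hu⟩ := D.mem_range_of_odd hcomm hdec hne hga (by rw [orderOf_conj, hg]; decide)
      exact ⟨c', u, Or.inr (by rw [← orderOf_injective ι hinj, ← hu, orderOf_conj, hg]), hu⟩
  obtain ⟨p, r, hpr⟩ := psl_cover (neg_one_not_square hK D hP) hy hy2 hu
  have key : Cov (ε * ι y) (ι u) := by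
    refine ⟨ι p, ι r, ?_⟩
    rw [hpr]
    rcases hε with rfl | rfl
    · simp only [one_mul, map_mul, map_inv]
    · have ha : ∀ z, D.a * ι z = ι z * D.a := fun z => (hcomm z).symm
      have e1 : ∀ z, ι z * (D.a * ι y) * (ι z)⁻¹ = D.a * ι (z * y * z⁻¹) := fun z => by
        rw [← mul_assoc, ← ha z, map_mul, map_mul, map_inv]; group
      rw [e1, e1, map_mul (f := ι) (p * y * p⁻¹)]
      calc ι (p * y * p⁻¹) * ι (r * y * r⁻¹) = D.a * (D.a * ι (p * y * p⁻¹)) * ι (r * y * r⁻¹) := by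
            rw [← mul_assoc D.a D.a, D.a_sq, one_mul]
        _ = D.a * (ι (p * y * p⁻¹) * D.a) * ι (r * y * r⁻¹) := by rw [ha]
        _ = _ := by group
  have h1 := key.conj_base c⁻¹
  rw [← he, show c⁻¹ * (c * x * c⁻¹) * c⁻¹⁻¹ = x by group] at h1
  have h2 := h1.conj c'⁻¹
  rwa [← hgu, show c'⁻¹ * (c' * g * c'⁻¹) * c'⁻¹⁻¹ = g by group] at h2

omit D hP in
theorem cov_zc_all {x : ↥(foldK K m).fix} {v₀ : K} (hv₀ : v₀ ≠ 0) (h : Cov x (zc hK v₀)) {v : K}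
    (hv : v ≠ 0) : Cov x (zc hK v) := by
  obtain ⟨c, hc⟩ := isConj_iff.1 (zc_conj hK hv₀ hv)
  rw [← hc]
  exact h.conj c

/-- The central elements of `U¹`. -/
theorem cov_zc [Fintype ↥(foldK K m).fix] [Fintype (IrrCharacter ↥(foldK K m).fix)]
    {x : ↥(foldK K m).fix} (hx3 : ¬ 3 ∣ orderOf x) (hx1 : x ≠ 1) (hreal : IsConj x x⁻¹)
    (hk : Nat.card (centralizer ({x} : Set ↥(foldK K m).fix)) ≤ 3 ^ (2 * m + 1) + 1)
    (hst : St ↥(foldK K m).fix x = 1 ∨ St ↥(foldK K m).fix x = -1)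
    {v : K} (hv : v ≠ 0) : Cov x (zc hK v) := by
  classical
  refine cov_zc_all hK (neg_ne_zero.2 one_ne_zero) ?_ hv
  have hz : zc hK (-1 : K) = (zc hK 1)⁻¹ := by
    refine eq_inv_of_mul_eq_one_left ?_
    rw [← zc_add, neg_add_cancel, zc_zero]
  rw [hz]
  refine cov_of_sum_ne_zero fun hS => ?_
  set Q : ℂ := (3 : ℂ) ^ (2 * m + 1) with hQ
  have hre : ∀ χ : IrrCharacter ↥(foldK K m).fix,
      conj ((χ : ↥(foldK K m).fix → ℂ) x) = (χ : ↥(foldK K m).fix → ℂ) x := fun χ => by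
    obtain ⟨c, hc⟩ := isConj_iff.1 hreal
    rw [← Char.IsCharacter.apply_inv (Char.IsIrrCharacter.isCharacter χ.2), ← hc,
      Char.IsIrrCharacter.isClassFunction χ.2]
  choose d hd using fun χ : IrrCharacter ↥(foldK K m).fix => exists_nat_sum_zc hK χ
  choose n hn0 hn hn' using fun χ : IrrCharacter ↥(foldK K m).fix => ClassCount.exists_degree_eq χ
  have hqd : ∀ χ, Q * (d χ : ℂ) = (n χ : ℂ) + (Q - 1) * (χ : ↥(foldK K m).fix → ℂ) (zc hK 1) := fun χ => by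
    rw [← hd χ, sum_zc hK χ, hn χ]
  have hcol := Char.column_orth x x
  rw [if_pos (IsConj.refl x)] at hcol
  set k := Nat.card (centralizer ({x} : Set ↥(foldK K m).fix))
  -- `q Σ χ(x)² d / χ(1) = k`
  have hmain : (3 : ℝ) ^ (2 * m + 1) * ∑ χ : IrrCharacter ↥(foldK K m).fix,
      ‖(χ : ↥(foldK K m).fix → ℂ) x‖ ^ 2 * d χ / n χ = (k : ℝ) := by
    apply Complex.ofReal_injective
    have hsq : ∀ χ : IrrCharacter ↥(foldK K m).fix,
        ((‖(χ : ↥(foldK K m).fix → ℂ) x‖ : ℝ) : ℂ) ^ 2 = (χ : ↥(foldK K m).fix → ℂ) x ^ 2 := fun χ => by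
      rw [← Complex.mul_conj', hre, pow_two]
    push_cast
    simp only [hsq]
    rw [← hcol, ← hQ, Finset.mul_sum]
    have h0 : ∑ χ : IrrCharacter ↥(foldK K m).fix, (χ : ↥(foldK K m).fix → ℂ) x ^ 2 *
        ((Q - 1) * (χ : ↥(foldK K m).fix → ℂ) (zc hK 1)) / n χ = 0 := by
      calc _ = (Q - 1) * ∑ χ : IrrCharacter ↥(foldK K m).fix, (χ : ↥(foldK K m).fix → ℂ) x ^ 2 *
            (χ : ↥(foldK K m).fix → ℂ) (zc hK 1) / (χ : ↥(foldK K m).fix → ℂ) 1 := by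
            rw [Finset.mul_sum]
            exact Finset.sum_congr rfl fun χ _ => by rw [hn χ]; ring
        _ = 0 := by rw [hS, mul_zero]
    rw [← sub_eq_zero, ← Finset.sum_sub_distrib, ← h0]
    refine Finset.sum_congr rfl fun χ _ => ?_
    have : (n χ : ℂ) ≠ 0 := Nat.cast_ne_zero.2 (hn0 χ).ne'
    rw [hre]
    field_simp
    linear_combination ((χ : ↥(foldK K m).fix → ℂ) x ^ 2) * hqd χ
  set St' : IrrCharacter ↥(foldK K m).fix := ⟨St ↥(foldK K m).fix, st_irr D⟩ with hSt'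
  have hq1 : (1 : ℝ) < (3 : ℝ) ^ (2 * m + 1) := one_lt_pow₀ (by norm_num) (by omega)
  have hQ0 : Q ≠ 0 := pow_ne_zero _ (by norm_num)
  have hn1 : n (oneChar ↥(foldK K m).fix) = 1 := by
    apply Nat.cast_injective (R := ℂ)
    rw [← hn]
    simp [oneChar]
  have hd1 : d (oneChar ↥(foldK K m).fix) = 1 := by
    apply Nat.cast_injective (R := ℂ)
    refine mul_left_cancel₀ hQ0 ?_
    rw [hqd, hn1]
    simp [oneChar]
  have hnS : (n St' : ℂ) = Q ^ 3 := by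
    rw [← hn]
    show St ↥(foldK K m).fix 1 = _
    rw [st_one D]
    push_cast
    rfl
  have ho3 : orderOf (zc hK (1 : K)) = 3 ^ 1 := by
    haveI : Fact (Nat.Prime 3) := ⟨Nat.prime_three⟩
    rw [pow_one]
    refine orderOf_eq_prime ((xU_cube_iff hK 0 0 1).2 rfl) fun h => ?_
    exact one_ne_zero (zc_inj hK (h.trans (zc_zero hK).symm))
  have hSz : (St' : ↥(foldK K m).fix → ℂ) (zc hK 1) = 0 :=
    st_three D ho3 fun h => one_ne_zero (zc_inj hK (h.trans (zc_zero hK).symm))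
  have hdS : (d St' : ℂ) = Q ^ 2 := by
    refine mul_left_cancel₀ hQ0 ?_
    rw [hqd, hnS, hSz]
    ring
  have hne : oneChar ↥(foldK K m).fix ≠ St' := fun e => by
    have h := congrArg (fun χ : IrrCharacter ↥(foldK K m).fix => (χ : ↥(foldK K m).fix → ℂ) (zc hK 1)) e
    simp only [hSz] at h
    exact one_ne_zero h
  have hdSR : (d St' : ℝ) = ((3 : ℝ) ^ (2 * m + 1)) ^ 2 := by
    have : d St' = (3 ^ (2 * m + 1)) ^ 2 := Nat.cast_injective (R := ℂ) (by rw [hdS, hQ]; push_cast; rfl)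
    rw [this]; push_cast; rfl
  have hnSR : (n St' : ℝ) = ((3 : ℝ) ^ (2 * m + 1)) ^ 3 := by
    have : n St' = (3 ^ (2 * m + 1)) ^ 3 := Nat.cast_injective (R := ℂ) (by rw [hnS, hQ]; push_cast; rfl)
    rw [this]; push_cast; rfl
  set f : IrrCharacter ↥(foldK K m).fix → ℝ := fun χ => ‖(χ : ↥(foldK K m).fix → ℂ) x‖ ^ 2 * d χ / n χ
  have hf0 : ∀ χ, 0 ≤ f χ := fun χ => by positivity
  have hf1 : f (oneChar ↥(foldK K m).fix) = 1 := by
    show ‖(1 : ↥(foldK K m).fix → ℂ) x‖ ^ 2 * (d _ : ℝ) / (n _ : ℝ) = 1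
    rw [hd1, hn1]
    simp
  have hfS : f St' = ((3 : ℝ) ^ (2 * m + 1))⁻¹ := by
    have hx : ‖(St' : ↥(foldK K m).fix → ℂ) x‖ = 1 := by
      show ‖St ↥(foldK K m).fix x‖ = 1
      rcases hst with h | h <;> rw [h] <;> simp
    show ‖(St' : ↥(foldK K m).fix → ℂ) x‖ ^ 2 * _ / _ = _
    rw [hx, hdSR, hnSR]
    field_simp
  have hkR : (k : ℝ) ≤ (3 : ℝ) ^ (2 * m + 1) + 1 := by exact_mod_cast hk
  have hsplit := Finset.sum_sdiff (f := f)
    (Finset.subset_univ {oneChar ↥(foldK K m).fix, St'})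
  rw [Finset.sum_pair hne, hf1, hfS] at hsplit
  have hrest : ∑ χ ∈ Finset.univ \ {oneChar ↥(foldK K m).fix, St'}, f χ = 0 := by
    refine le_antisymm ?_ (Finset.sum_nonneg fun χ _ => hf0 χ)
    have hq0 : (3 : ℝ) ^ (2 * m + 1) ≠ 0 := by positivity
    have e1 : (3 : ℝ) ^ (2 * m + 1) * ((3 : ℝ) ^ (2 * m + 1))⁻¹ = 1 := mul_inv_cancel₀ hq0
    rw [show (∑ χ : IrrCharacter ↥(foldK K m).fix, ‖(χ : ↥(foldK K m).fix → ℂ) x‖ ^ 2 * d χ / n χ) = ∑ χ, f χ from rfl, ← hsplit,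
      mul_add, mul_add, mul_one, e1] at hmain
    by_contra hpos
    push Not at hpos
    nlinarith
  -- the other characters with `d ≠ 0` vanish at `x`
  have horth : ∑ χ : IrrCharacter ↥(foldK K m).fix, (d χ : ℂ) * (χ : ↥(foldK K m).fix → ℂ) x = 0 := by
    have hnot : ∀ g : ↥(foldK K m).fix, g ^ 3 = 1 → ¬ IsConj g x := by
      intro g hg hc
      obtain ⟨c, hc⟩ := isConj_iff.1 hc
      have h3 : orderOf x ∣ 3 := orderOf_dvd_of_pow_eq_one (by rw [← hc, conj_pow, hg]; group)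
      rcases (Nat.dvd_prime Nat.prime_three).1 h3 with h | h
      · exact hx1 (orderOf_eq_one_iff.1 h)
      · exact hx3 (h ▸ dvd_rfl)
    have e1 := Char.column_orth (1 : ↥(foldK K m).fix) x
    rw [if_neg (hnot 1 (one_pow 3))] at e1
    have e2 := Char.column_orth (zc hK (1 : K)) x
    rw [if_neg (hnot (zc hK 1) ((xU_cube_iff hK 0 0 1).2 rfl))] at e2
    simp only [hre, hn] at e1 e2
    refine (mul_eq_zero.1 (?_ : Q * _ = 0)).resolve_left hQ0
    rw [Finset.mul_sum]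
    calc ∑ χ : IrrCharacter ↥(foldK K m).fix, Q * ((d χ : ℂ) * (χ : ↥(foldK K m).fix → ℂ) x)
        = ∑ χ : IrrCharacter ↥(foldK K m).fix, ((n χ : ℂ) * (χ : ↥(foldK K m).fix → ℂ) x +
            (Q - 1) * ((χ : ↥(foldK K m).fix → ℂ) (zc hK 1) * (χ : ↥(foldK K m).fix → ℂ) x)) :=
          Finset.sum_congr rfl fun χ _ => by rw [← mul_assoc, hqd]; ring
      _ = 0 := by rw [Finset.sum_add_distrib, ← Finset.mul_sum, e1, e2, mul_zero, add_zero]
  rw [← Finset.sum_sdiff (Finset.subset_univ {oneChar ↥(foldK K m).fix, St'}), Finset.sum_pair hne,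
    Finset.sum_eq_zero (fun χ hχ => by
      have h := (Finset.sum_eq_zero_iff_of_nonneg fun χ _ => hf0 χ).1 hrest χ hχ
      rcases div_eq_zero_iff.1 h with h | h
      · rcases mul_eq_zero.1 h with h | h
        · rw [norm_eq_zero.1 (pow_eq_zero_iff two_ne_zero |>.1 h), mul_zero]
        · rw [Nat.cast_eq_zero.1 h, Nat.cast_zero, zero_mul]
      · exact absurd (Nat.cast_eq_zero.1 h) (hn0 χ).ne'), zero_add, hd1, hdS] at horth
  have h1x : (oneChar ↥(foldK K m).fix : ↥(foldK K m).fix → ℂ) x = 1 := rfl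
  have hSx : (St' : ↥(foldK K m).fix → ℂ) x = St ↥(foldK K m).fix x := rfl
  rw [h1x, hSx, Nat.cast_one, one_mul] at horth
  have hbig : (2 : ℝ) ≤ ((3 : ℝ) ^ (2 * m + 1)) ^ 2 := by
    have : (3 : ℝ) ≤ (3 : ℝ) ^ (2 * m + 1) := le_self_pow₀ (by norm_num) (by omega)
    nlinarith
  have hQR : Q ^ 2 = ((((3 : ℝ) ^ (2 * m + 1)) ^ 2 : ℝ) : ℂ) := by rw [hQ]; push_cast; rfl
  rcases hst with h | h <;> rw [h, hQR] at horth
  · have := congrArg Complex.re horth
    simp only [Complex.add_re, Complex.one_re, Complex.mul_re, Complex.ofReal_re, Complex.ofReal_im,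
      Complex.one_im, Complex.zero_re] at this
    linarith
  · have := congrArg Complex.re horth
    simp only [Complex.add_re, Complex.one_re, Complex.mul_re, Complex.ofReal_re, Complex.ofReal_im,
      Complex.neg_re, Complex.neg_im, Complex.one_im, Complex.zero_re] at this
    linarith

end Cfsg.Agent.ReeCover
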