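import Cfsg.Agent.Lib.ReeCover.TorusA
import Cfsg.Agent.Lib.ReeCover.TorusHT

/-!
# Products of two conjugates of an element of order prime to 3 in a small Ree group

* `cov_small`, `cov_nine`
* `cov_main`
-/

set_option autoImplicit false
set_option linter.unusedSectionVars false

namespace Cfsg.Agent.ReeCover

open Cfsg Cfsg.Lie Subgroup
open Cfsg.Agent.ReeTori Cfsg.Agent.Twisted

section generic

variable {G : Type*} [Group G] [Finite G] [Fintype (IrrCharacter G)]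

/-- A bound by the largest value at `g`. -/
theorem restSum_le {x g : G} {B d : ℝ} (hB : 0 ≤ B) (hd : 0 < d)
    (hg : ∀ χ : IrrCharacter G, ‖(χ : G → ℂ) g‖ ≤ B)
    (hdeg : ∀ χ : IrrCharacter G, χ ≠ oneChar G → d ≤ ‖(χ : G → ℂ) 1‖) :
    restSum x g ≤ ((Nat.card (centralizer ({x} : Set G)) : ℝ) - 1) * (B / d) := by
  classical
  rw [restSum, ← sum_sq_erase x, Finset.sum_mul]
  refine Finset.sum_le_sum fun χ hχ => ?_
  rw [mul_div_assoc]
  exact mul_le_mul_of_nonneg_left (div_le_div₀ hB (hg χ) hd (hdeg χ (Finset.ne_of_mem_erase hχ)))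
    (sq_nonneg _)

/-- A bound by the largest value at `g`, one character vanishing at `g`. -/
theorem restSum_le_of_zero {x g : G} {B d : ℝ} (hB : 0 ≤ B) (hd : 0 < d)
    (hg : ∀ χ : IrrCharacter G, ‖(χ : G → ℂ) g‖ ≤ B)
    (hdeg : ∀ χ : IrrCharacter G, χ ≠ oneChar G → d ≤ ‖(χ : G → ℂ) 1‖)
    {θ : IrrCharacter G} (hθ : θ ≠ oneChar G) (hθg : (θ : G → ℂ) g = 0) (hθx : ‖(θ : G → ℂ) x‖ ^ 2 = 1) :
    restSum x g ≤ ((Nat.card (centralizer ({x} : Set G)) : ℝ) - 2) * (B / d) := by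
  classical
  have hmem : θ ∈ Finset.univ.erase (oneChar G) := Finset.mem_erase.2 ⟨hθ, Finset.mem_univ _⟩
  have hsum := sum_sq_erase (G := G) x
  rw [← Finset.add_sum_erase _ _ hmem, hθx] at hsum
  rw [restSum, ← Finset.add_sum_erase _ _ hmem, hθg, norm_zero, mul_zero, zero_div, zero_add,
    show (Nat.card (centralizer ({x} : Set G)) : ℝ) - 2 =
      ∑ χ ∈ (Finset.univ.erase (oneChar G)).erase θ, ‖(χ : G → ℂ) x‖ ^ 2 by linarith, Finset.sum_mul]
  refine Finset.sum_le_sum fun χ hχ => ?_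
  rw [mul_div_assoc]
  exact mul_le_mul_of_nonneg_left (div_le_div₀ hB (hg χ) hd
    (hdeg χ (Finset.ne_of_mem_erase (Finset.mem_of_mem_erase hχ)))) (sq_nonneg _)

end generic

variable {K : Type*} [Field K] [Fintype K] [CharP K 3] {m : ℕ}
  (hK : Fintype.card K = 3 ^ (2 * m + 1))
  (D : Data ↥(foldK K m).fix (PSL2.PSL2 K) (3 ^ (2 * m + 1)))
  (hP : (D.P : Subgroup ↥(foldK K m).fix) = (foldK K m).U1.subgroupOf (foldK K m).fix)

include hK D hP

theorem cov_small [Fintype (IrrCharacter ↥(foldK K m).fix)] (hm : 1 ≤ m) {x g : ↥(foldK K m).fix}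
    (hx : Nat.card (centralizer ({x} : Set ↥(foldK K m).fix)) ≤ 3 ^ (2 * m + 1) + 3 ^ (m + 1) + 1)
    (hg : Nat.card (centralizer ({g} : Set ↥(foldK K m).fix)) ≤ 2 * 3 ^ (2 * m + 1)) : Cov x g⁻¹ := by
  classical
  refine cov_of_bound ?_
  set q : ℝ := (3 : ℝ) ^ (2 * m + 1) with hq
  have hq27 : (27 : ℝ) ≤ q := le_trans (by norm_num)
    (pow_le_pow_right₀ (show (1 : ℝ) ≤ 3 by norm_num) (show 3 ≤ 2 * m + 1 by omega))
  have hr : 3 * (3 : ℝ) ^ (m + 1) ≤ q := by
    rw [hq, ← pow_succ']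
    exact pow_le_pow_right₀ (by norm_num) (by omega)
  have hd0 : 0 < q ^ 2 - q + 1 := by nlinarith
  have hg' : ∀ χ : IrrCharacter ↥(foldK K m).fix, ‖(χ : ↥(foldK K m).fix → ℂ) g‖ ≤ q / 3 := by
    intro χ
    refine (norm_le_sqrt χ g).trans ((Real.sqrt_le_left (by positivity)).2 ?_)
    have : (Nat.card (centralizer ({g} : Set ↥(foldK K m).fix)) : ℝ) ≤ 2 * q := by
      rw [hq]; exact_mod_cast hg
    nlinarith
  have hx' : (Nat.card (centralizer ({x} : Set ↥(foldK K m).fix)) : ℝ) ≤ q + (3 : ℝ) ^ (m + 1) + 1 := by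
    rw [hq]; exact_mod_cast hx
  refine lt_of_le_of_lt (restSum_le (B := q / 3) (by positivity) hd0 hg' fun χ hχ => degree_ge hK hm χ hχ) ?_
  refine lt_of_le_of_lt (mul_le_mul_of_nonneg_right (show _ ≤ 4 / 3 * q by linarith) (by positivity)) ?_
  rw [← mul_div_assoc, div_lt_one hd0]
  nlinarith

theorem cov_nine [Fintype ↥(foldK K m).fix] [Fintype (IrrCharacter ↥(foldK K m).fix)] (hm : 1 ≤ m)
    {x g : ↥(foldK K m).fix}
    (hx : Nat.card (centralizer ({x} : Set ↥(foldK K m).fix)) ≤ 3 ^ (2 * m + 1) + 1)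
    (hst : St ↥(foldK K m).fix x = 1 ∨ St ↥(foldK K m).fix x = -1) (hg : orderOf g = 9)
    (hgC : Nat.card (centralizer ({g} : Set ↥(foldK K m).fix)) ≤ (3 ^ (2 * m + 1)) ^ 2) : Cov x g⁻¹ := by
  classical
  refine cov_of_bound ?_
  set q : ℝ := (3 : ℝ) ^ (2 * m + 1) with hq
  set St' : IrrCharacter ↥(foldK K m).fix := ⟨St ↥(foldK K m).fix, st_irr D⟩
  have hg1 : g ≠ 1 := fun e => by rw [e, orderOf_one] at hg; omega
  have hSg : (St' : ↥(foldK K m).fix → ℂ) g = 0 := st_three D (k := 2) (by rw [hg]; norm_num) hg1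
  have hne : St' ≠ oneChar ↥(foldK K m).fix := fun e => by
    have h : (St' : ↥(foldK K m).fix → ℂ) g = (oneChar ↥(foldK K m).fix : ↥(foldK K m).fix → ℂ) g := by
      rw [e]
    rw [hSg] at h
    exact zero_ne_one h
  have hq27 : (27 : ℝ) ≤ q := le_trans (by norm_num)
    (pow_le_pow_right₀ (show (1 : ℝ) ≤ 3 by norm_num) (show 3 ≤ 2 * m + 1 by omega))
  have hd0 : 0 < q ^ 2 - q + 1 := by nlinarith
  have hg' : ∀ χ : IrrCharacter ↥(foldK K m).fix, ‖(χ : ↥(foldK K m).fix → ℂ) g‖ ≤ q := by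
    intro χ
    refine (norm_le_sqrt χ g).trans ((Real.sqrt_le_left (by positivity)).2 ?_)
    rw [hq]; exact_mod_cast hgC
  have hx' : (Nat.card (centralizer ({x} : Set ↥(foldK K m).fix)) : ℝ) ≤ q + 1 := by
    rw [hq]; exact_mod_cast hx
  have hSx : ‖(St' : ↥(foldK K m).fix → ℂ) x‖ ^ 2 = 1 := by
    show ‖St ↥(foldK K m).fix x‖ ^ 2 = 1
    rcases hst with h | h <;> rw [h] <;> simp
  refine lt_of_le_of_lt (restSum_le_of_zero (B := q) (by positivity) hd0 hg'
    (fun χ hχ => degree_ge hK hm χ hχ) hne hSg hSx) ?_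
  refine lt_of_le_of_lt (mul_le_mul_of_nonneg_right (show _ ≤ q - 1 by linarith) (by positivity)) ?_
  rw [← mul_div_assoc, div_lt_one hd0]
  nlinarith

/-- Every non-trivial element is a product of two conjugates of an element of order `> 2` prime to 3. -/
theorem cov_main [Fintype ↥(foldK K m).fix] (hm : 1 ≤ m) {x g : ↥(foldK K m).fix} (hx2 : 2 < orderOf x)
    (hx3 : ¬ 3 ∣ orderOf x) (hg : g ≠ 1) : Cov x g := by
  classical
  haveI := Fintype.ofFinite (IrrCharacter ↥(foldK K m).fix)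
  -- it suffices to treat inverses
  suffices h : ∀ g : ↥(foldK K m).fix, g ≠ 1 → Cov x g⁻¹ by
    simpa using h g⁻¹ (inv_ne_one.2 hg)
  clear hg g
  intro g hg
  have hx1 : x ≠ 1 := fun e => by rw [e, orderOf_one] at hx2; omega
  obtain ⟨hq27, hq8, -⟩ := D.q_facts
  have hr : 3 * 3 ^ (m + 1) ≤ 3 ^ (2 * m + 1) := by
    rw [← pow_succ']; exact Nat.pow_le_pow_right (by norm_num) (by omega)
  have hgcases := g_cases hK D hP hg
  have involutive : (∃ t, orderOf t = 2 ∧ x * t = t * x) →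
      Nat.card (centralizer ({x} : Set ↥(foldK K m).fix)) ≤ 3 ^ (2 * m + 1) + 1 → Cov x g⁻¹ := by
    rintro ⟨t, ht, hxt⟩ hk
    have hst : St ↥(foldK K m).fix x = 1 ∨ St ↥(foldK K m).fix x = -1 := by
      rcases st_semisimple D (x := x) (by omega) hx3 with ⟨h, -⟩ | h
      · exact Or.inl h
      · exact Or.inr h
    rcases hgcases with h | h | ⟨h, hC⟩ | ⟨-, hC⟩
    · exact cov_of_comm hK D hP hx2 hx3 ht hxt (Or.inl (by rw [orderOf_inv, h]))
        (s := g⁻¹) (by rw [orderOf_inv, h]) rfl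
    · rcases order_three_cases hK D hP h with ⟨s, hs, hgs⟩ | ⟨v, hv, hvg⟩
      · exact cov_of_comm hK D hP hx2 hx3 ht hxt (Or.inr (by rw [orderOf_inv, h])) hs
          ((show Commute g s from hgs).inv_left).eq
      · obtain ⟨c, hc⟩ := isConj_iff.1 hvg
        have hz : (zc hK v)⁻¹ = zc hK (-v) := by
          refine inv_eq_of_mul_eq_one_right ?_
          rw [← zc_add, add_neg_cancel, zc_zero]
        rw [← hc, show (c * zc hK v * c⁻¹)⁻¹ = c * (zc hK v)⁻¹ * c⁻¹ by group, hz]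
        exact (cov_zc hK D hP hx3 hx1 (isConj_inv_of_comm hK D hP hx2 hx3 ht hxt) hk hst
          (neg_ne_zero.2 hv)).conj c
    · exact cov_nine hK D hP hm hk hst h hC
    · exact cov_small hK D hP hm (hk.trans (by omega)) hC
  rcases D.classify x with h | h | h | h | h | ⟨h3, hd, c, hc⟩ | ⟨h3, hd⟩ | ⟨h1, p, z, hp, hpQ, hz, hxz⟩
  · omega
  · omega
  · exact absurd (h ▸ dvd_rfl) hx3
  · exact absurd (h ▸ (by norm_num : 3 ∣ 6)) hx3
  · exact absurd (h ▸ (by norm_num : 3 ∣ 9)) hx3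
  · -- split torus
    have hC : Nat.card (centralizer ({x} : Set ↥(foldK K m).fix)) = 3 ^ (2 * m + 1) - 1 := by
      rw [← card_centralizer_conj c x, D.centralizer_H hc (Data.sq_ne_one D (by rwa [orderOf_conj])),
        D.H_card]
    refine involutive ⟨c⁻¹ * D.a * c, ?_, ?_⟩ (by omega)
    · have h := orderOf_conj c⁻¹ D.a
      rw [inv_inv] at h
      rw [h, D.orderOf_a]
    · have h := D.H_comm hc D.a_mem
      calc x * (c⁻¹ * D.a * c) = c⁻¹ * (c * x * c⁻¹ * D.a) * c := by group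
        _ = c⁻¹ * (D.a * (c * x * c⁻¹)) * c := by rw [h]
        _ = _ := by group
  · -- non-split torus
    obtain ⟨T, E, Y, hT⟩ := D.exists_torus
    obtain ⟨c, hc⟩ := D.exists_conj_T_type hT h3 hd
    have hC : Nat.card (centralizer ({x} : Set ↥(foldK K m).fix)) = 3 ^ (2 * m + 1) + 1 := by
      rw [← card_centralizer_conj c x, hT.centralizer_torus hc (Data.sq_ne_one D (by rwa [orderOf_conj])),
        hT.card]
    obtain ⟨s, hsE, hs1⟩ : ∃ s ∈ E, s ≠ 1 := by
      by_contra hcon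
      push Not at hcon
      have h4 := hT.card_E
      rw [(Subgroup.eq_bot_iff_forall E).2 hcon, Subgroup.card_bot] at h4
      omega
    obtain ⟨hsT, hs2⟩ := (hT.mem_E s).1 hsE
    refine involutive ⟨c⁻¹ * s * c, ?_, ?_⟩ (by omega)
    · have h := orderOf_conj c⁻¹ s
      rw [inv_inv] at h
      rw [h]
      haveI : Fact (Nat.Prime 2) := ⟨Nat.prime_two⟩
      exact orderOf_eq_prime (by rw [pow_two, hs2]) hs1
    · have h := hT.comm _ hc _ hsT
      calc x * (c⁻¹ * s * c) = c⁻¹ * (c * x * c⁻¹ * s) * c := by group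
        _ = c⁻¹ * (s * (c * x * c⁻¹)) * c := by rw [h]
        _ = _ := by group
  · -- regular torus
    set A := centralizer ({z} : Set ↥(foldK K m).fix) with hA
    have hAreg : D.IsReg A := ⟨p, z, hp, hpQ, hz, rfl⟩
    rcases hgcases with h | h | ⟨h, -⟩ | ⟨-, hC⟩
    · exact cov_regular hK D hP hm hAreg hxz hx1 (Or.inl h)
    · exact cov_regular hK D hP hm hAreg hxz hx1 (Or.inr (Or.inl h))
    · exact cov_regular hK D hP hm hAreg hxz hx1 (Or.inr (Or.inr h))
    · refine cov_small hK D hP hm ?_ hC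
      rw [(D.reg_basic hAreg).2.2.2 x hxz hx1]
      obtain ⟨-, -, hall⟩ := D.exists_regular (r := 3 ^ (m + 1)) (by rw [← pow_add, ← pow_succ']; ring_nf)
      rcases (hall A hAreg).1 with e | e <;> rw [e] <;> omega

end Cfsg.Agent.ReeCover
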