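import Cfsg.Agent.Lib.ReeTori.PSLFacts
import Cfsg.Agent.Lib.PSL2.Conjugacy

/-!
# Products of two conjugates of a semisimple element of `PSL₂(3^{odd})`

* `exists_conj_comp` : a non-central element of `SL₂` is conjugate to the companion matrix or to its inverse
* `exists_conj_inv`, `psl_cover` : semisimple elements are real, and every element of order 2 or 3 is a product
  of two conjugates of any of them
-/

set_option autoImplicit false
set_option linter.unusedSectionVars false

namespace Cfsg.Agent.ReeCover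

open Cfsg.Agent.PSL2

variable {F : Type*} [Field F] [Finite F]

theorem isSquare_or_neg (hneg : ¬ IsSquare (-1 : F)) (d : F) :
    IsSquare d ∨ IsSquare (-d) := by
  classical
  haveI := Fintype.ofFinite F
  by_cases hd : d = 0
  · exact Or.inl (hd ▸ IsSquare.zero)
  by_cases hs : IsSquare d
  · exact Or.inl hs
  refine Or.inr ((quadraticChar_one_iff_isSquare (neg_ne_zero.2 hd)).1 ?_)
  rw [neg_eq_neg_one_mul, map_mul, quadraticChar_neg_one_iff_not_isSquare.2 hs,
    quadraticChar_neg_one_iff_not_isSquare.2 hneg]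
  norm_num

/-- The companion matrix of `X² − τ X + 1`. -/
def comp (τ : F) : SL2 F := ⟨!![0, -1; 1, τ], by rw [Matrix.det_fin_two_of]; ring⟩

theorem tr_comp (τ : F) : tr (comp τ) = τ := by simp [tr, comp]

theorem exists_conj_comp (hneg : ¬ IsSquare (-1 : F)) {g : SL2 F} (hg : g ∉ Subgroup.center (SL2 F)) :
    ∃ c : SL2 F, c * comp (tr g) * c⁻¹ = g ∨ c * comp (tr g) * c⁻¹ = g⁻¹ := by
  classical
  have hdet := det_eq g
  obtain ⟨C, hC, hd⟩ : ∃ C : Matrix (Fin 2) (Fin 2) F,
      g.1 * C = C * (comp (tr g)).1 ∧ C.det ≠ 0 := by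
    by_cases h10 : g.1 1 0 ≠ 0
    · refine ⟨!![1, g.1 0 0; 0, g.1 1 0], ?_, by simpa [Matrix.det_fin_two_of] using h10⟩
      ext i j
      fin_cases i <;> fin_cases j <;> simp [Matrix.mul_apply, Fin.sum_univ_two, comp, tr] <;>
        first | ring1 | linear_combination hdet | linear_combination -hdet
    by_cases h01 : g.1 0 1 ≠ 0
    · refine ⟨!![0, g.1 0 1; 1, g.1 1 1], ?_, by simpa [Matrix.det_fin_two_of] using h01⟩
      ext i j
      fin_cases i <;> fin_cases j <;> simp [Matrix.mul_apply, Fin.sum_univ_two, comp, tr] <;>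
        first | ring1 | linear_combination hdet | linear_combination -hdet
    push Not at h10 h01
    rw [h10, h01] at hdet
    refine ⟨!![1, g.1 0 0; 1, g.1 1 1], ?_, ?_⟩
    · ext i j
      fin_cases i <;> fin_cases j <;> simp [Matrix.mul_apply, Fin.sum_univ_two, comp, tr, h10, h01] <;>
        first | ring1 | linear_combination hdet | linear_combination -hdet
    · rw [Matrix.det_fin_two_of]
      intro h
      have e : g.1 1 1 = g.1 0 0 := by linear_combination h
      rw [e] at hdet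
      apply hg
      rw [mem_center_iff']
      rcases mul_self_eq_one_iff.1 (show g.1 0 0 * g.1 0 0 = 1 by linear_combination hdet) with h1 | h1
      · left
        apply Subtype.ext
        ext i j
        fin_cases i <;> fin_cases j <;> simp [h10, h01, e, h1]
      · right
        apply Subtype.ext
        ext i j
        fin_cases i <;> fin_cases j <;> simp [h10, h01, e, h1]
  rcases isSquare_or_neg hneg C.det with ⟨e, he⟩ | ⟨e, he⟩
  · have he0 : e ≠ 0 := by rintro rfl; exact hd (by simpa using he)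
    let c : SL2 F := ⟨e⁻¹ • C, by
      rw [Matrix.det_smul, Fintype.card_fin, he]; field_simp⟩
    refine ⟨c, Or.inl ?_⟩
    rw [mul_inv_eq_iff_eq_mul]
    apply Subtype.ext
    rw [Matrix.SpecialLinearGroup.coe_mul, Matrix.SpecialLinearGroup.coe_mul]
    show e⁻¹ • C * (comp (tr g)).1 = g.1 * (e⁻¹ • C)
    rw [Matrix.smul_mul, Matrix.mul_smul, hC]
  · have he0 : e ≠ 0 := by rintro rfl; exact hd (by simpa using he)
    let J : Matrix (Fin 2) (Fin 2) F := !![0, 1; 1, 0]
    have hJ : (comp (tr g)).1 * J * (comp (tr g)).1 = J := by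
      ext i j
      fin_cases i <;> fin_cases j <;> simp [J, comp, Matrix.mul_apply, Fin.sum_univ_two]
    let c : SL2 F := ⟨e⁻¹ • (C * J), by
      rw [Matrix.det_smul, Fintype.card_fin, Matrix.det_mul,
        show J.det = -1 by simp [J, Matrix.det_fin_two_of], mul_neg_one, he]
      field_simp⟩
    refine ⟨c, Or.inr ?_⟩
    have h1 : g * c * comp (tr g) = c := by
      apply Subtype.ext
      rw [Matrix.SpecialLinearGroup.coe_mul, Matrix.SpecialLinearGroup.coe_mul]
      show g.1 * (e⁻¹ • (C * J)) * (comp (tr g)).1 = e⁻¹ • (C * J)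
      rw [Matrix.mul_smul, Matrix.smul_mul, ← Matrix.mul_assoc, hC, Matrix.mul_assoc C,
        Matrix.mul_assoc C, hJ]
    rw [eq_inv_iff_mul_eq_one]
    calc c * comp (tr g) * c⁻¹ * g = g⁻¹ * (g * c * comp (tr g)) * c⁻¹ * g := by group
      _ = 1 := by rw [h1]; group

theorem isConj_or_inv (hneg : ¬ IsSquare (-1 : F)) {g h : SL2 F} (hg : g ∉ Subgroup.center (SL2 F))
    (hh : h ∉ Subgroup.center (SL2 F)) (ht : tr g = tr h) :
    IsConj (QuotientGroup.mk g : PSL2 F) (QuotientGroup.mk h) ∨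
      IsConj (QuotientGroup.mk g : PSL2 F) (QuotientGroup.mk h)⁻¹ := by
  obtain ⟨c, hc⟩ := exists_conj_comp hneg hg
  obtain ⟨d, hd⟩ := exists_conj_comp hneg hh
  rw [← ht] at hd
  set K : PSL2 F := QuotientGroup.mk (comp (tr g))
  have hc' : IsConj K (QuotientGroup.mk g) ∨ IsConj K (QuotientGroup.mk g)⁻¹ := by
    rcases hc with h' | h'
    · exact Or.inl (isConj_iff.2 ⟨QuotientGroup.mk c, by rw [← h']; rfl⟩)
    · exact Or.inr (isConj_iff.2 ⟨QuotientGroup.mk c, by
      rw [show (QuotientGroup.mk g : PSL2 F)⁻¹ = QuotientGroup.mk (g⁻¹) from rfl, ← h']; rfl⟩)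
  have hd' : IsConj K (QuotientGroup.mk h) ∨ IsConj K (QuotientGroup.mk h)⁻¹ := by
    rcases hd with h' | h'
    · exact Or.inl (isConj_iff.2 ⟨QuotientGroup.mk d, by rw [← h']; rfl⟩)
    · exact Or.inr (isConj_iff.2 ⟨QuotientGroup.mk d, by
      rw [show (QuotientGroup.mk h : PSL2 F)⁻¹ = QuotientGroup.mk (h⁻¹) from rfl, ← h']; rfl⟩)
  have hinv : ∀ {a b : PSL2 F}, IsConj a b → IsConj a⁻¹ b⁻¹ := by
    intro a b hab
    obtain ⟨e, he⟩ := isConj_iff.1 hab
    exact isConj_iff.2 ⟨e, by rw [← he, conj_inv]⟩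
  rcases hc' with a | a <;> rcases hd' with b | b
  · exact Or.inl (a.symm.trans b)
  · exact Or.inr (a.symm.trans b)
  · exact Or.inr (by simpa using hinv (a.symm.trans b))
  · exact Or.inl (by simpa using hinv (a.symm.trans b))

variable [CharP F 3]

theorem exists_conj_inv {y : PSL2 F} (hy : ¬ orderOf y ∣ 3) : ∃ w : PSL2 F, w * y * w⁻¹ = y⁻¹ := by
  haveI : Fact (Nat.Prime 3) := ⟨Nat.prime_three⟩
  obtain ⟨w, -, hw⟩ := exists_inverting 3 hy
  exact ⟨w, hw⟩

/-- Elements of order 2 and 3 are products of two conjugates of a semisimple element. -/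
theorem psl_cover (hneg : ¬ IsSquare (-1 : F)) {y u : PSL2 F} (hy : ¬ orderOf y ∣ 3)
    (hy2 : y * y ≠ 1) (hu : orderOf u = 2 ∨ orderOf u = 3) :
    ∃ c d : PSL2 F, u = c * y * c⁻¹ * (d * y * d⁻¹) := by
  classical
  haveI : Fact (Nat.Prime 3) := ⟨Nat.prime_three⟩
  haveI := Fintype.ofFinite F
  have h3 : (3 : F) = 0 := by exact_mod_cast CharP.cast_eq_zero F 3
  have h2 : (2 : F) ≠ 0 := fun h => one_ne_zero (by linear_combination h3 - h : (1 : F) = 0)
  obtain ⟨Y, rfl⟩ := QuotientGroup.mk_surjective y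
  set τ := tr Y with hτ
  have h4 : τ ^ 2 ≠ 4 := tr_sq_ne_four_of_not_dvd 3 hy
  have hτ0 : τ ≠ 0 := fun h => hy2 (by
    rw [← QuotientGroup.mk_mul, sq_eq_neg_one_of_tr_zero h, mk_one_iff]
    exact Or.inr rfl)
  have hnc : ∀ g : SL2 F, tr g = τ → g ∉ Subgroup.center (SL2 F) := fun g hg hc => by
    rcases mem_center_iff'.1 hc with rfl | rfl
    · rw [tr_one] at hg; exact h4 (by rw [← hg]; norm_num)
    · rw [tr_neg, tr_one] at hg; exact h4 (by rw [← hg]; ring)
  obtain ⟨w, hw⟩ := exists_conj_inv hy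
  have hyinv : IsConj (QuotientGroup.mk Y : PSL2 F) (QuotientGroup.mk Y)⁻¹ := isConj_iff.2 ⟨w, hw⟩
  have hconj : ∀ g : SL2 F, tr g = τ →
      IsConj (QuotientGroup.mk Y : PSL2 F) (QuotientGroup.mk g) ∧
      IsConj (QuotientGroup.mk Y : PSL2 F) (QuotientGroup.mk g)⁻¹ := by
    intro g hg
    have hinv : ∀ {a b : PSL2 F}, IsConj a b → IsConj a⁻¹ b⁻¹ := by
      intro a b hab
      obtain ⟨e, he⟩ := isConj_iff.1 hab
      exact isConj_iff.2 ⟨e, by rw [← he, conj_inv]⟩
    rcases isConj_or_inv hneg (hnc Y rfl) (hnc g hg) hg.symm with h | h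
    · exact ⟨h, hyinv.trans (hinv h)⟩
    · exact ⟨hyinv.trans (by simpa using hinv h), h⟩
  -- lift of `u`
  obtain ⟨U, hU, hs⟩ : ∃ U : SL2 F, (QuotientGroup.mk U : PSL2 F) = u ∧ (tr U = 0 ∨ tr U = 1) := by
    rcases hu with hu | hu
    · obtain ⟨g, hg, hg0⟩ := exists_lift_involution h2 (x := u)
        (fun e => by rw [e, orderOf_one] at hu; omega)
        (by rw [← pow_two]; have := pow_orderOf_eq_one u; rwa [hu] at this)
      exact ⟨g, hg, Or.inl hg0⟩
    · obtain ⟨g, rfl⟩ := QuotientGroup.mk_surjective u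
      have := tr_sq_eq_one_of_pow_three (g := g) (by rw [← hu]; exact pow_orderOf_eq_one _)
        (fun e => by rw [e, orderOf_one] at hu; omega)
      rcases sq_eq_one_iff.1 this with h | h
      · exact ⟨g, rfl, Or.inr h⟩
      · exact ⟨-g, mk_neg g, Or.inr (by rw [tr_neg, h, neg_neg])⟩
  have hUnc : U ∉ Subgroup.center (SL2 F) := fun hc => by
    have h1 : u = 1 := hU ▸ (QuotientGroup.eq_one_iff _).2 hc
    rw [h1, orderOf_one] at hu
    omega
  set s := tr U
  -- the conic
  obtain ⟨α, β, hαβ⟩ : ∃ α β : F, α * (τ - α) - β * (β + (τ - α) * τ - s) = 1 := by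
    let f : Polynomial F := Polynomial.X ^ 2
    let g : Polynomial F := Polynomial.C (1 - τ ^ 2) * Polynomial.X ^ 2 +
      Polynomial.C (-τ ^ 2 - s) * Polynomial.X + Polynomial.C (1 - τ ^ 2)
    have hlead : (1 : F) - τ ^ 2 ≠ 0 := fun h => h4 (by linear_combination -h - h3)
    obtain ⟨a, b, hab⟩ := FiniteField.exists_root_sum_quadratic (f := f) (g := g)
      (Polynomial.degree_X_pow 2) (Polynomial.degree_quadratic hlead) (by
        rw [← Nat.card_eq_fintype_card]
        obtain ⟨n, -, hn⟩ := FiniteField.card F 3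
        rw [Nat.card_eq_fintype_card, hn, Nat.pow_mod]
        norm_num)
    simp only [f, g, Polynomial.eval_add, Polynomial.eval_mul, Polynomial.eval_pow, Polynomial.eval_C,
      Polynomial.eval_X] at hab
    refine ⟨a - τ * (1 + b), b, ?_⟩
    linear_combination -hab + τ * (1 + b) * (a - τ * (1 + b)) * h3
  let Y1 : SL2 F := ⟨!![α, β; β + (τ - α) * τ - s, τ - α], by
    rw [Matrix.det_fin_two_of]; linear_combination hαβ⟩
  have hY1 : tr Y1 = τ := by simp [tr, Y1]
  have hP : tr (Y1 * comp τ) = s := by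
    rw [tr, Matrix.SpecialLinearGroup.coe_mul]
    simp [Y1, comp, Matrix.mul_apply, Fin.sum_univ_two]
    ring
  have hPnc : Y1 * comp τ ∉ Subgroup.center (SL2 F) := fun hc => by
    rcases mem_center_iff'.1 hc with h | h
    · rw [h, tr_one] at hP
      rcases hs with e | e <;> rw [e] at hP
      · exact h2 hP
      · exact one_ne_zero (by linear_combination hP : (1 : F) = 0)
    · rw [h, tr_neg, tr_one] at hP
      rcases hs with e | e <;> rw [e] at hP
      · exact h2 (neg_eq_zero.1 hP)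
      · apply hτ0
        have h' : Y1 = -(comp τ)⁻¹ := by
          rw [eq_mul_inv_iff_mul_eq.2 h, neg_one_mul]
        rw [h', tr_neg, tr_inv, tr_comp] at hY1
        exact (mul_eq_zero.1 (show (2 : F) * τ = 0 by linear_combination -hY1)).resolve_left h2
  have key := isConj_or_inv hneg hPnc hUnc hP
  rw [hU] at key
  rcases key with h | h
  · obtain ⟨e, he⟩ := isConj_iff.1 h
    obtain ⟨c, hc⟩ := isConj_iff.1 (hconj Y1 hY1).1
    obtain ⟨d, hd⟩ := isConj_iff.1 (hconj (comp τ) (tr_comp τ)).1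
    refine ⟨e * c, e * d, ?_⟩
    rw [← he, QuotientGroup.mk_mul, ← hc, ← hd]
    group
  · obtain ⟨e, he⟩ := isConj_iff.1 h
    obtain ⟨c, hc⟩ := isConj_iff.1 (hconj (comp τ) (tr_comp τ)).2
    obtain ⟨d, hd⟩ := isConj_iff.1 (hconj Y1 hY1).2
    refine ⟨e * c, e * d, ?_⟩
    have hu' : u = e * ((QuotientGroup.mk (comp τ) : PSL2 F)⁻¹ * (QuotientGroup.mk Y1)⁻¹) * e⁻¹ := by
      rw [← inv_inv u, ← he, QuotientGroup.mk_mul]
      group
    rw [hu', ← hc, ← hd]
    group

end Cfsg.Agent.ReeCover
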