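import Cfsg.Agent.Lib.ReeCover.Local
import Cfsg.Agent.Lib.Char.Perm
import Cfsg.Agent.Lib.Char.Virtual
import Cfsg.Agent.Lib.ClassCount.CharSum

/-!
# The Steinberg character, degree bound and the class product criterion

* `St`, `st_one`, `st_irr`, `st_three`, `st_semisimple`
* `degree_ge`
* `Cov`, `cov_of_sum_ne_zero`, `cov_of_bound`, `sum_sq_eq`, `norm_le_sqrt`
-/

set_option autoImplicit false
set_option linter.unusedSectionVars false

namespace Cfsg.Agent.ReeCover

open Cfsg Subgroup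
open Cfsg.Agent.ReeTori
open scoped Pointwise

section criterion

variable {G : Type*} [Group G] [Finite G]

/-- `g` is a product of two conjugates of `x`. -/
def Cov (x g : G) : Prop := ∃ u v : G, g = (u * x * u⁻¹) * (v * x * v⁻¹)

theorem Cov.conj {x g : G} (h : Cov x g) (c : G) : Cov x (c * g * c⁻¹) := by
  obtain ⟨u, v, rfl⟩ := h
  exact ⟨c * u, c * v, by group⟩

theorem Cov.conj_base {x g : G} (h : Cov x g) (c : G) : Cov (c * x * c⁻¹) g := by
  obtain ⟨u, v, rfl⟩ := h
  exact ⟨u * c⁻¹, v * c⁻¹, by group⟩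

variable [Fintype (IrrCharacter G)]

theorem cov_of_sum_ne_zero {x g : G}
    (h : ∑ χ : IrrCharacter G, (χ : G → ℂ) x ^ 2 * (χ : G → ℂ) g / (χ : G → ℂ) 1 ≠ 0) :
    Cov x g⁻¹ := by
  by_contra hc
  apply h
  have h1 := ClassCount.card_mul_fibreCount x x g⁻¹
  have h0 : ClassCount.fibreCount x x g⁻¹ = 0 := by
    refine Nat.card_eq_zero.2 (Or.inl ⟨?_⟩)
    rintro ⟨a, ha, hb⟩
    obtain ⟨u, hu⟩ := isConj_iff.1 ha
    obtain ⟨v, hv⟩ := isConj_iff.1 hb
    exact hc ⟨u, v, by rw [hu, hv, mul_inv_cancel_left]⟩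
  rw [h0, Nat.cast_zero, mul_zero, inv_inv] at h1
  have hne : (Nat.card {a : G // IsConj x a} : ℂ) ≠ 0 := by
    haveI : Nonempty {a : G // IsConj x a} := ⟨⟨x, IsConj.refl x⟩⟩
    exact Nat.cast_ne_zero.2 Nat.card_pos.ne'
  suffices hh : (Nat.card {a : G // IsConj x a} : ℂ) ^ 2 *
      ∑ χ : IrrCharacter G, (χ : G → ℂ) x ^ 2 * (χ : G → ℂ) g / (χ : G → ℂ) 1 = 0 from
    (mul_eq_zero.1 hh).resolve_left (pow_ne_zero _ hne)
  rw [h1, Finset.mul_sum]
  refine Finset.sum_congr rfl fun χ _ => ?_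
  have := Char.IsIrrCharacter.apply_one_ne_zero χ.2
  simp only [ClassCount.omega]
  field_simp

/-- The principal character. -/
def oneChar (G : Type*) [Group G] : IrrCharacter G := ⟨1, Char.isIrrCharacter_one⟩

open Classical in
/-- The sum over the non-principal characters. -/
noncomputable def restSum (x g : G) : ℝ := ∑ χ ∈ Finset.univ.erase (oneChar G),
  ‖(χ : G → ℂ) x‖ ^ 2 * ‖(χ : G → ℂ) g‖ / ‖(χ : G → ℂ) 1‖

theorem cov_of_bound {x g : G} (h : restSum x g < 1) : Cov x g⁻¹ := by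
  classical
  rw [restSum] at h
  refine cov_of_sum_ne_zero fun h0 => ?_
  rw [← Finset.add_sum_erase _ _ (Finset.mem_univ (oneChar G))] at h0
  simp only [oneChar, Pi.one_apply, one_pow, mul_one, div_one] at h0
  have h1 := congrArg norm (eq_neg_of_add_eq_zero_left h0)
  rw [norm_one, norm_neg] at h1
  have h2 := (norm_sum_le (Finset.univ.erase (oneChar G))
    fun χ : IrrCharacter G => (χ : G → ℂ) x ^ 2 * (χ : G → ℂ) g / (χ : G → ℂ) 1)
  simp only [norm_div, norm_mul, norm_pow, oneChar] at h2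
  simp only [oneChar] at h
  linarith

theorem sum_sq_eq (g : G) :
    ∑ χ : IrrCharacter G, ‖(χ : G → ℂ) g‖ ^ 2 = (Nat.card (centralizer ({g} : Set G)) : ℝ) := by
  classical
  have h := Char.column_orth g g
  rw [if_pos (IsConj.refl g)] at h
  simp only [Complex.mul_conj, Complex.normSq_eq_norm_sq] at h
  exact_mod_cast h

open Classical in
theorem sum_sq_erase (g : G) :
    ∑ χ ∈ Finset.univ.erase (oneChar G), ‖(χ : G → ℂ) g‖ ^ 2 =
      (Nat.card (centralizer ({g} : Set G)) : ℝ) - 1 := by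
  rw [← sum_sq_eq g, ← Finset.add_sum_erase _ _ (Finset.mem_univ (oneChar G))]
  simp [oneChar]

theorem norm_le_sqrt (χ : IrrCharacter G) (g : G) :
    ‖(χ : G → ℂ) g‖ ≤ Real.sqrt (Nat.card (centralizer ({g} : Set G)) : ℝ) := by
  refine Real.le_sqrt_of_sq_le ?_
  rw [← sum_sq_eq g]
  exact Finset.single_le_sum (f := fun φ : IrrCharacter G => ‖(φ : G → ℂ) g‖ ^ 2)
    (fun φ _ => sq_nonneg _) (Finset.mem_univ χ)

end criterion

open Cfsg.Lie Cfsg.Agent.Twisted

variable {K : Type*} [Field K] [Fintype K] [CharP K 3] {m : ℕ}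
  (hK : Fintype.card K = 3 ^ (2 * m + 1))

include hK in
theorem degree_ge (hm : 1 ≤ m) (χ : IrrCharacter ↥(foldK K m).fix) (hχ : χ ≠ oneChar _) :
    ((3 : ℝ) ^ (2 * m + 1)) ^ 2 - (3 : ℝ) ^ (2 * m + 1) + 1 ≤ ‖(χ : ↥(foldK K m).fix → ℂ) 1‖ := by
  classical
  haveI := Fintype.ofFinite ↥(foldK K m).fix
  obtain ⟨n, ρ, hρ, he⟩ := χ.2
  have hne : ∃ g, ρ g ≠ 1 := by
    by_contra hc
    push Not at hc
    apply hχ
    have hcon : ∀ g, (χ : ↥(foldK K m).fix → ℂ) g = (n : ℂ) := fun g => by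
      rw [← he, Representation.character, hc g, LinearMap.trace_one, Module.finrank_fin_fun]
    have h1 : classInner (χ : ↥(foldK K m).fix → ℂ) 1 = (n : ℂ) := by
      simp [classInner, hcon, Nat.card_eq_fintype_card]
    by_contra hne
    rw [Char.classInner_irr_of_ne χ.2 Char.isIrrCharacter_one (fun e => hne (Subtype.ext e))] at h1
    have := Char.IsIrrCharacter.apply_one_ne_zero χ.2
    rw [hcon 1, ← h1] at this
    exact this rfl
  have h := degree_bound hK hm ρ hne
  rw [Module.finrank_fin_fun] at h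
  have h1 : (χ : ↥(foldK K m).fix → ℂ) 1 = (n : ℂ) := by
    rw [← he, Representation.char_one, Module.finrank_fin_fun]
  rw [h1, Complex.norm_natCast]
  have hle : 3 ^ (2 * m + 1) ≤ (3 ^ (2 * m + 1)) ^ 2 := Nat.le_self_pow (by norm_num) _
  have h' : (((3 ^ (2 * m + 1)) ^ 2 - 3 ^ (2 * m + 1) + 1 : ℕ) : ℝ) ≤ (n : ℝ) := by exact_mod_cast h
  push_cast [Nat.cast_sub hle] at h'
  exact h'

section steinberg

variable {G : Type*} [Group G] [Fintype G] {L : Type*} [Group L] [Finite L] {q : ℕ} (D : Data G L q)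

/-- The Steinberg character. -/
noncomputable def St (G : Type*) [Group G] : G → ℂ :=
  fun g => (Nat.card (MulAction.fixedBy (Sylow 3 G) g) : ℂ) - 1

include D

theorem st_one : St G 1 = (q : ℂ) ^ 3 := by
  have : MulAction.fixedBy (Sylow 3 G) (1 : G) = Set.univ := Set.eq_univ_of_forall fun x => one_smul G x
  rw [St, this, Nat.card_congr (Equiv.Set.univ _), D.sylow_regular.1]
  push_cast
  ring

theorem pair_transitive {Q R : Sylow 3 G} (h : Q ≠ R) : ∃ g : G, g • Q = D.P ∧ g • R = D.w • D.P := by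
  haveI : Fact (Nat.Prime 3) := ⟨Nat.prime_three⟩
  obtain ⟨g, hg⟩ := MulAction.exists_smul_eq G Q D.P
  have hne : g • R ≠ D.P := fun e => h (MulAction.injective g (hg.trans e.symm))
  obtain ⟨u, hu, he⟩ := D.sylow_regular.2.1 _ hne
  refine ⟨u⁻¹ * g, ?_, ?_⟩
  · rw [mul_smul, hg, inv_smul_eq_iff]
    exact (Sylow.smul_eq_iff_mem_normalizer.2 (le_normalizer hu)).symm
  · rw [mul_smul, he, inv_smul_smul]

theorem st_irr : IsIrrCharacter G (St G) := by
  classical
  haveI : Fact (Nat.Prime 3) := ⟨Nat.prime_three⟩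
  haveI := Fintype.ofFinite (Sylow 3 G)
  set π : G → ℂ := fun g => (Nat.card (MulAction.fixedBy (Sylow 3 G) g) : ℂ) with hπ
  have hchar : IsCharacter G π := Char.isCharacter_fixedPoints (Sylow 3 G)
  have e1 : classInner π 1 = 1 := by
    rw [Char.classInner_fixedPoints_one (Sylow 3 G)]
    have : Subsingleton (MulAction.orbitRel.Quotient G (Sylow 3 G)) :=
      ⟨fun a b => Quotient.inductionOn₂ a b fun x y => Quotient.sound
        (MulAction.exists_smul_eq G y x)⟩
    have hne : Nonempty (MulAction.orbitRel.Quotient G (Sylow 3 G)) := ⟨⟦D.P⟧⟩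
    rw [Nat.card_of_subsingleton ⟦D.P⟧, Nat.cast_one]
  have e2 : classInner π π = 2 := by
    have hpair : classInner π π =
        classInner (fun g : G => (Nat.card (MulAction.fixedBy (Sylow 3 G × Sylow 3 G) g) : ℂ)) 1 := by
      rw [classInner, classInner]
      congr 1
      refine Finset.sum_congr rfl fun g _ => ?_
      rw [Pi.one_apply, map_one, mul_one, hπ, map_natCast, ← Nat.cast_mul, ← Nat.card_prod]
      congr 1
      exact Nat.card_congr
        { toFun := fun x => ⟨(x.1.1, x.2.1), Prod.ext x.1.2 x.2.2⟩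
          invFun := fun x => (⟨x.1.1, congrArg Prod.fst x.2⟩, ⟨x.1.2, congrArg Prod.snd x.2⟩)
          left_inv := fun x => rfl
          right_inv := fun x => rfl }
    rw [hpair, Char.classInner_fixedPoints_one]
    let f : Bool → MulAction.orbitRel.Quotient G (Sylow 3 G × Sylow 3 G) := fun b =>
      ⟦(D.P, if b then D.P else D.w • D.P)⟧
    have hbij : Function.Bijective f := by
      constructor
      · intro b c hbc
        obtain ⟨g, hg⟩ := Quotient.exact hbc
        have h1 : g • D.P = D.P := congrArg Prod.fst hg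
        have h2 := congrArg Prod.snd hg
        cases b <;> cases c <;> simp at h2 ⊢
        · exact D.w_smul_ne (h2.symm.trans h1)
        · exact D.w_smul_ne (MulAction.injective g (h2.trans h1.symm))
      · intro a
        induction a using Quotient.inductionOn with
        | h a =>
          obtain ⟨Q, R⟩ := a
          by_cases h : Q = R
          · subst h
            obtain ⟨g, hg⟩ := MulAction.exists_smul_eq G Q D.P
            exact ⟨true, Quotient.sound ⟨g, Prod.ext hg hg⟩⟩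
          · obtain ⟨g, hg1, hg2⟩ := pair_transitive D h
            exact ⟨false, Quotient.sound ⟨g, Prod.ext hg1 hg2⟩⟩
    rw [← Nat.card_eq_of_bijective f hbij, Nat.card_eq_fintype_card, Fintype.card_bool]
    norm_num
  have hSt : St G = π - 1 := funext fun g => by simp [St, hπ]
  have hgen : IsGeneralizedCharacter G (St G) := ⟨π, 1, hchar, Char.isCharacter_one, hSt⟩
  have e3 : classInner (1 : G → ℂ) π = 1 := by rw [← Char.classInner_conj_symm, e1, map_one]
  have hnorm : classInner (St G) (St G) = 1 := by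
    rw [hSt]
    rw [Char.classInner_sub_left, Char.classInner_sub_right, Char.classInner_sub_right, e2, e1, e3,
      Char.classInner_irr_self Char.isIrrCharacter_one]
    norm_num
  obtain ⟨χ, hχ, h | h⟩ := Char.IsGeneralizedCharacter.exists_irr_of_norm_one hgen hnorm
  · rwa [h]
  · exfalso
    obtain ⟨n, hn, he⟩ := Char.IsIrrCharacter.exists_degree hχ
    have h1 := congrFun h 1
    rw [st_one D, Pi.neg_apply, he] at h1
    have h2 : ((q ^ 3 + n : ℕ) : ℂ) = 0 := by push_cast; rw [h1]; ring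
    have := Nat.cast_eq_zero.1 h2
    omega

theorem st_conj (g h : G) : St G (h * g * h⁻¹) = St G g :=
  Char.IsIrrCharacter.isClassFunction (st_irr D) g h

theorem st_three {g : G} {k : ℕ} (hg : orderOf g = 3 ^ k) (h1 : g ≠ 1) : St G g = 0 := by
  haveI : Fact (Nat.Prime 3) := ⟨Nat.prime_three⟩
  have hp : IsPGroup 3 (zpowers g) := IsPGroup.of_card (n := k) (by rw [Nat.card_zpowers, hg])
  have hmem : ∀ R : Sylow 3 G, g • R = R → g ∈ (R : Subgroup G) := fun R h => by
    rw [Sylow.smul_eq_iff_mem_normalizer] at h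
    have hp' : IsPGroup 3 (zpowers g ⊔ (R : Subgroup G) : Subgroup G) :=
      hp.to_sup_of_normal_right' R.2 (zpowers_le.2 h)
    exact (R.3 hp' le_sup_right).le (le_sup_left (a := zpowers g) (mem_zpowers g))
  obtain ⟨S, hS⟩ := hp.exists_le_sylow
  have hone : MulAction.fixedBy (Sylow 3 G) g = {S} := by
    refine Set.ext fun R => ⟨fun hR => ?_, fun hR => ?_⟩
    · by_contra hne
      exact h1 (mem_bot.1 ((D.ti _ _ hne).le (mem_inf.2 ⟨hmem R hR, hS (mem_zpowers g)⟩)))
    · rw [Set.mem_singleton_iff.1 hR]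
      exact Sylow.smul_eq_iff_mem_normalizer.2 (le_normalizer (hS (mem_zpowers g)))
  rw [St, hone, Nat.card_eq_fintype_card]
  simp

theorem st_semisimple {x : G} (h3 : 3 ≤ orderOf x) (hx3 : ¬ 3 ∣ orderOf x) :
    (St G x = 1 ∧ orderOf x ∣ q - 1) ∨ St G x = -1 := by
  haveI : Fact (Nat.Prime 3) := ⟨Nat.prime_three⟩
  by_cases hfix : ∃ R : Sylow 3 G, x • R = R
  · left
    obtain ⟨R, hR⟩ := hfix
    obtain ⟨g, hg⟩ := MulAction.exists_smul_eq G R D.P
    have hN : g * x * g⁻¹ ∈ normalizer (D.P : Set G) := by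
      rw [← Sylow.smul_eq_iff_mem_normalizer, mul_smul, mul_smul, ← hg, inv_smul_smul, hR]
    have hd : orderOf x ∣ q - 1 := by
      have h := orderOf_dvd_natCard _ hN
      rw [orderOf_conj, D.sylow_regular.2.2] at h
      refine Nat.Coprime.dvd_of_dvd_mul_left ?_ h
      obtain ⟨m, -, hq⟩ := D.q_pow
      rw [hq]
      exact Nat.Coprime.pow_right _ (Nat.Coprime.pow_right _
        (((Nat.Prime.coprime_iff_not_dvd Nat.prime_three).2 hx3).symm))
    obtain ⟨h, hh⟩ := D.exists_conj_H_type h3 hd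
    refine ⟨?_, hd⟩
    rw [← st_conj D x h]
    have hh2 : h * x * h⁻¹ * (h * x * h⁻¹) ≠ 1 := Data.sq_ne_one D (by rwa [orderOf_conj])
    have htwo : MulAction.fixedBy (Sylow 3 G) (h * x * h⁻¹) = {D.P, D.w • D.P} := by
      refine Set.ext fun R => ⟨fun hR => ?_, fun hR => ?_⟩
      · exact D.fixed_H hh hh2 hR
      · rcases hR with rfl | hR
        · exact (D.fix_of_mem_H hh).1
        · rw [Set.mem_singleton_iff.1 hR]; exact (D.fix_of_mem_H hh).2
    rw [St, htwo, Nat.card_coe_set_eq, Set.ncard_pair (Ne.symm D.w_smul_ne)]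
    norm_num
  · right
    have : MulAction.fixedBy (Sylow 3 G) x = ∅ :=
      Set.eq_empty_iff_forall_notMem.2 fun R hR => hfix ⟨R, hR⟩
    simp [St, this]

end steinberg

end Cfsg.Agent.ReeCover
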