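import Cfsg.Agent.Lib.ReeCover.Zed
import Cfsg.Agent.Lib.ReeCover.HVanish
import Cfsg.Agent.Lib.ReeCover.KeyNum
import Cfsg.Agent.Lib.ReeCover.ExcBound

/-!
# Elements of a regular torus: elements of order 2, 3 and 9 are products of two conjugates

* `reg_ccSub`, `exists_other_reg`, `exists_exc_facts` : the exceptional data of a regular torus
* `cov_regular`
-/

set_option autoImplicit false
set_option linter.unusedSectionVars false

namespace Cfsg.Agent.ReeCover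

open Cfsg Cfsg.Lie Subgroup
open Cfsg.Agent.ReeTori Cfsg.Agent.Twisted

open Classical in
theorem ExcData.sum_non' {G : Type*} [Group G] [Fintype (IrrCharacter G)] {A : Subgroup G} {n t : ℕ}
    (E : ExcData A n t) [∀ χ : IrrCharacter G, Decidable (∀ i, E.ξ i ≠ χ)] :
    ∑ χ : IrrCharacter G, (if ∀ i, E.ξ i ≠ χ then E.c χ ^ 2 else 0) =
      (n : ℤ) + 2 * (E.δ * E.b) - (t : ℤ) * E.b ^ 2 := by
  rw [← E.sum_non]
  refine Finset.sum_congr rfl fun χ _ => ?_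
  by_cases h : ∀ i, E.ξ i ≠ χ <;> simp [h]

variable {K : Type*} [Field K] [Fintype K] [CharP K 3] {m : ℕ}
  (hK : Fintype.card K = 3 ^ (2 * m + 1))
  (D : Data ↥(foldK K m).fix (PSL2.PSL2 K) (3 ^ (2 * m + 1)))
  (hP : (D.P : Subgroup ↥(foldK K m).fix) = (foldK K m).U1.subgroupOf (foldK K m).fix)

include hK D hP

theorem reg_coprime {A : Subgroup ↥(foldK K m).fix} (hA : D.IsReg A) :
    Nat.Coprime (Nat.card A) ((3 ^ (2 * m + 1)) ^ 3 * (3 ^ (2 * m + 1) - 1)) :=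
  ((D.Q_coprime).coprime_dvd_left (D.reg_basic hA).2.1).coprime_dvd_right
    (mul_dvd_mul_left _ (dvd_mul_right _ _))

theorem reg_ccSub {A : Subgroup ↥(foldK K m).fix} (hA : D.IsReg A) : CCSub A 6 := by
  obtain ⟨hc, -, -, hcent⟩ := D.reg_basic hA
  refine ⟨fun a ha b hb => ?_, fun a ha ha1 g hg => ?_, ?_⟩
  · haveI := hc
    obtain ⟨z, hz⟩ := IsCyclic.exists_generator (α := A)
    obtain ⟨i, hi⟩ := hz ⟨a, ha⟩
    obtain ⟨j, hj⟩ := hz ⟨b, hb⟩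
    have e1 : (z : ↥(foldK K m).fix) ^ i = a := by rw [← Subgroup.coe_zpow]; exact congrArg Subtype.val hi
    have e2 : (z : ↥(foldK K m).fix) ^ j = b := by rw [← Subgroup.coe_zpow]; exact congrArg Subtype.val hj
    rw [← e1, ← e2, ← zpow_add, ← zpow_add, add_comm]
  · rw [← hcent a ha ha1]
    exact mem_centralizer_singleton_iff.2 hg
  · obtain ⟨-, -, hall⟩ := D.exists_regular (r := 3 ^ (m + 1))
      (by rw [← pow_add, ← pow_succ']; ring_nf)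
    exact (hall A hA).2

theorem exists_other_reg {A : Subgroup ↥(foldK K m).fix} (hA : D.IsReg A) :
    ∃ (A' : Subgroup ↥(foldK K m).fix) (ε : ℤ), D.IsReg A' ∧ (ε = 1 ∨ ε = -1) ∧
      (Nat.card A : ℤ) = 3 * ((3 : ℤ) ^ m) ^ 2 - ε * (3 * 3 ^ m) + 1 ∧
      (Nat.card A' : ℤ) = 3 * ((3 : ℤ) ^ m) ^ 2 + ε * (3 * 3 ^ m) + 1 ∧
      Nat.Coprime (Nat.card A) (Nat.card A') := by
  have hrr : (3 : ℕ) ^ (m + 1) * 3 ^ (m + 1) = 3 * 3 ^ (2 * m + 1) := by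
    rw [← pow_add, ← pow_succ']; ring_nf
  obtain ⟨⟨A1, hA1, hc1⟩, ⟨A2, hA2, hc2⟩, hall⟩ := D.exists_regular hrr
  have hq : ((3 ^ (2 * m + 1) : ℕ) : ℤ) = 3 * ((3 : ℤ) ^ m) ^ 2 := by push_cast; ring
  have hr : ((3 ^ (m + 1) : ℕ) : ℤ) = 3 * (3 : ℤ) ^ m := by push_cast; ring
  have hle : 3 ^ (m + 1) ≤ 3 ^ (2 * m + 1) := Nat.pow_le_pow_right (by norm_num) (by omega)
  have hcop : ∀ B B' : Subgroup ↥(foldK K m).fix, D.IsReg B → D.IsReg B' →
      Nat.card B = 3 ^ (2 * m + 1) - 3 ^ (m + 1) + 1 → Nat.card B' = 3 ^ (2 * m + 1) + 3 ^ (m + 1) + 1 →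
      Nat.Coprime (Nat.card B) (Nat.card B') := by
    intro B B' hB hB' e e'
    refine Nat.coprime_of_dvd fun p hp h1 h2 => ?_
    have hdd : p ∣ 2 * 3 ^ (m + 1) := by
      have := Nat.dvd_sub h2 h1
      rw [e, e'] at this
      rwa [show 3 ^ (2 * m + 1) + 3 ^ (m + 1) + 1 - (3 ^ (2 * m + 1) - 3 ^ (m + 1) + 1) = 2 * 3 ^ (m + 1) by
        omega] at this
    obtain ⟨hq27, hq8, hq3⟩ := D.q_facts
    have hpc := (reg_coprime hK D hP hB)
    have hp23 : p ∣ (3 ^ (2 * m + 1)) ^ 3 * (3 ^ (2 * m + 1) - 1) := by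
      rcases hp.dvd_mul.1 hdd with h | h
      · exact h.trans (dvd_mul_of_dvd_right (by omega) _)
      · exact (hp.dvd_of_dvd_pow h).trans (dvd_mul_of_dvd_left (dvd_pow (by omega) (by norm_num)) _)
    exact hp.one_lt.ne' (Nat.eq_one_of_dvd_coprimes hpc h1 hp23)
  rcases (hall A hA).1 with h | h
  · refine ⟨A2, 1, hA2, Or.inl rfl, ?_, ?_, hcop A A2 hA hA2 h hc2⟩
    · rw [h, Nat.cast_add, Nat.cast_sub hle, hq, hr]; push_cast; ring
    · rw [hc2, Nat.cast_add, Nat.cast_add, hq, hr]; push_cast; ring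
  · refine ⟨A1, -1, hA1, Or.inr rfl, ?_, ?_, (hcop A1 A hA1 hA hc1 h).symm⟩
    · rw [h, Nat.cast_add, Nat.cast_add, hq, hr]; push_cast; ring
    · rw [hc1, Nat.cast_add, Nat.cast_sub hle, hq, hr]; push_cast; ring

theorem reg_st {A : Subgroup ↥(foldK K m).fix} [Fintype ↥(foldK K m).fix] (hA : D.IsReg A)
    {a : ↥(foldK K m).fix} (ha : a ∈ A) (ha1 : a ≠ 1) : St ↥(foldK K m).fix a = -1 := by
  obtain ⟨-, hd, -, -⟩ := D.reg_basic hA
  have ho : orderOf a ∣ (3 ^ (2 * m + 1)) ^ 2 - 3 ^ (2 * m + 1) + 1 := (orderOf_dvd_natCard _ ha).trans hd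
  have h1 : orderOf a ≠ 1 := fun e => ha1 (orderOf_eq_one_iff.1 e)
  obtain ⟨e1, -, e2, e3, -, -⟩ := (D.exclusive h1).2 ho
  have hpos := orderOf_pos a
  have h3d : ¬ 3 ∣ orderOf a := fun h => by
    have hcop := reg_coprime hK D hP hA
    have := Nat.eq_one_of_dvd_coprimes hcop (h.trans (orderOf_dvd_natCard _ ha))
      (dvd_mul_of_dvd_left (dvd_pow (dvd_pow_self 3 (by omega)) (by norm_num)) _)
    omega
  rcases st_semisimple D (x := a) (by omega) h3d with ⟨-, h⟩ | h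
  · exact absurd h e1
  · exact h

theorem orderOf_zc_one : orderOf (zc hK (1 : K)) = 3 := by
  haveI : Fact (Nat.Prime 3) := ⟨Nat.prime_three⟩
  refine orderOf_eq_prime ((xU_cube_iff hK 0 0 1).2 rfl) fun h => ?_
  exact one_ne_zero (zc_inj hK (h.trans (zc_zero hK).symm))

theorem off_of_order {A : Subgroup ↥(foldK K m).fix} (hA : D.IsReg A) {g : ↥(foldK K m).fix}
    (hg : orderOf g = 2 ∨ orderOf g = 3 ∨ orderOf g = 9) : Off A g := by
  intro h hh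
  rw [← orderOf_eq_one_iff]
  refine Nat.eq_one_of_dvd_coprimes (reg_coprime hK D hP hA) ?_ ?_
  · rw [← orderOf_conj h g]; exact orderOf_dvd_natCard _ hh
  · obtain ⟨hq27, hq8, -⟩ := D.q_facts
    rcases hg with e | e | e <;> rw [e]
    · exact dvd_mul_of_dvd_right (by omega) _
    · exact dvd_mul_of_dvd_left (dvd_pow (dvd_pow_self 3 (by omega)) (by norm_num)) _
    · refine dvd_mul_of_dvd_left ?_ _
      rw [← pow_mul, show (9 : ℕ) = 3 ^ 2 by norm_num]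
      exact pow_dvd_pow _ (by omega)

set_option maxHeartbeats 1000000 in
/-- The numerical facts about the exceptional characters of a regular torus. -/
theorem exists_exc_facts [Fintype ↥(foldK K m).fix] [Fintype (IrrCharacter ↥(foldK K m).fix)]
    (hm : 1 ≤ m) {A : Subgroup ↥(foldK K m).fix} (hA : D.IsReg A) :
    ∃ (t e : ℕ) (E : ExcData A 6 t) (St' : IrrCharacter ↥(foldK K m).fix) (u : ℤ) (ε φ nz φ' z z' : ℤ)
      (k' : ℕ),
      St' ≠ oneChar ↥(foldK K m).fix ∧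
      ‖(St' : ↥(foldK K m).fix → ℂ) 1‖ = ((3 : ℝ) ^ (2 * m + 1)) ^ 3 ∧
      (∀ i, E.ξ i ≠ oneChar ↥(foldK K m).fix) ∧ (∀ i, E.ξ i ≠ St') ∧
      E.c (oneChar ↥(foldK K m).fix) ^ 2 = 1 ∧ E.c St' ^ 2 = 1 ∧
      (u = 0 ∨ (u = 1 ∧ t ≤ 6)) ∧ E.δ * E.b = u ∧ E.b ^ 2 = u ^ 2 ∧
      (∀ i, ‖(E.ξ i : ↥(foldK K m).fix → ℂ) 1‖ = (e : ℝ)) ∧
      (3 ^ (2 * m + 1)) ^ 2 - 3 ^ (2 * m + 1) + 1 ≤ e ∧
      (3 ^ (2 * m + 1) - 1) / 2 ∣ e ∧
      (ε = 1 ∨ ε = -1) ∧ (Nat.card A : ℤ) = 3 * ((3 : ℤ) ^ m) ^ 2 - ε * (3 * 3 ^ m) + 1 ∧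
      (k' : ℤ) = 3 * ((3 : ℤ) ^ m) ^ 2 + ε * (3 * 3 ^ m) + 1 ∧
      Nat.Coprime ((3 ^ (2 * m + 1) - 1) / 2) k' ∧
      (e : ℤ) - φ = ((3 : ℤ) ^ (2 * m + 1)) ^ 2 * nz ∧
      (t : ℤ) * φ ^ 2 ≤ ((3 : ℤ) ^ (2 * m + 1)) ^ 3 ∧
      (e : ℤ) = φ' + (k' : ℤ) * z' ∧ (t : ℤ) * φ' ^ 2 ≤ 4 ∧
      (e : ℤ) = E.δ * (u + 6) + (Nat.card A : ℤ) * z := by
  classical
  obtain ⟨hq27, hq8, -⟩ := D.q_facts
  obtain ⟨A', ε, hA', hε, hkA, hkA', hcop⟩ := exists_other_reg hK D hP hA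
  have hCC := reg_ccSub hK D hP hA
  have hCC' := reg_ccSub hK D hP hA'
  obtain ⟨r, y, hr, hrQ, hy, -⟩ := id hA
  have hs3 : (3 : ℤ) ≤ (3 : ℤ) ^ m := le_self_pow₀ (by norm_num) (by omega)
  have hk19 : ∀ B : Subgroup ↥(foldK K m).fix, D.IsReg B → 3 * 6 + 1 ≤ Nat.card B := by
    intro B hB
    obtain ⟨-, -, hall⟩ := D.exists_regular (r := 3 ^ (m + 1)) (by rw [← pow_add, ← pow_succ']; ring_nf)
    have h9 : 3 * 3 ^ (m + 1) ≤ 3 ^ (2 * m + 1) := by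
      rw [← pow_succ']; exact Nat.pow_le_pow_right (by norm_num) (by omega)
    rcases (hall B hB).1 with h | h <;> rw [h] <;> omega
  obtain ⟨t, ⟨E⟩⟩ := exists_excData hCC (hk19 A hA) (by norm_num)
  obtain ⟨t', ⟨E'⟩⟩ := exists_excData hCC' (hk19 A' hA') (by norm_num)
  set St' : IrrCharacter ↥(foldK K m).fix := ⟨St ↥(foldK K m).fix, st_irr D⟩ with hSt'
  have i0 : Fin t := ⟨0, by have := E.t_three; omega⟩
  -- an element of `A` and one of `A'`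
  have hne : ∀ B : Subgroup ↥(foldK K m).fix, D.IsReg B → ∃ a ∈ B, a ≠ 1 := fun B hB => by
    by_contra hc
    push Not at hc
    have h1 := hk19 B hB
    rw [(Subgroup.eq_bot_iff_forall B).2 hc, Subgroup.card_bot] at h1
    omega
  obtain ⟨a, ha, ha1⟩ := hne A hA
  obtain ⟨a', ha', ha'1⟩ := hne A' hA'
  have hSt1 : St' ≠ oneChar ↥(foldK K m).fix := fun e => by
    have h1 := congrFun (congrArg Subtype.val e) a
    rw [hSt'] at h1
    change St ↥(foldK K m).fix a = (1 : ↥(foldK K m).fix → ℂ) a at h1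
    rw [reg_st hK D hP hA ha ha1, Pi.one_apply] at h1
    norm_num at h1
  have hnon : ∀ (B : Subgroup ↥(foldK K m).fix) (hB : D.IsReg B) (s : ℕ) (F : ExcData B 6 s),
      (∀ i, F.ξ i ≠ oneChar ↥(foldK K m).fix) ∧ (∀ i, F.ξ i ≠ St') ∧
        F.c (oneChar ↥(foldK K m).fix) ^ 2 = 1 ∧ F.c St' ^ 2 = 1 := by
    intro B hB s F
    have h1 : ∀ i, F.ξ i ≠ oneChar ↥(foldK K m).fix := fun i e => by
      obtain ⟨b, -, -, hne⟩ := F.nonconst i 1
      exact hne (by rw [e]; rfl)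
    have h2 : ∀ i, F.ξ i ≠ St' := fun i e => by
      obtain ⟨b, hb, hb1, hne⟩ := F.nonconst i (-1)
      exact hne (by rw [e, hSt']; exact reg_st hK D hP hB hb hb1)
    obtain ⟨b, hb, hb1⟩ := hne B hB
    refine ⟨h1, h2, ?_, ?_⟩
    · have h3 := F.val_non _ h1 b hb hb1
      have h4 : ((F.c (oneChar ↥(foldK K m).fix) : ℤ) : ℂ) = ((1 : ℤ) : ℂ) := by
        rw [← h3, Int.cast_one]; rfl
      rw [Int.cast_injective h4]; norm_num
    · have h3 := F.val_non _ h2 b hb hb1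
      have h4 : ((F.c St' : ℤ) : ℂ) = ((-1 : ℤ) : ℂ) := by
        rw [← h3, Int.cast_neg, Int.cast_one, hSt']; exact reg_st hK D hP hB hb hb1
      rw [Int.cast_injective h4]; norm_num
  obtain ⟨h1n, hsn, hc1, hcs⟩ := hnon A hA t E
  obtain ⟨h1n', hsn', hc1', hcs'⟩ := hnon A' hA' t' E'
  -- `u`
  have hu : (t : ℤ) * (E.δ * E.b) ^ 2 - 2 * (E.δ * E.b) - 4 ≤ 0 := by
    have h2 := pair_le_sum (fun χ => if ∀ i, E.ξ i ≠ χ then E.c χ ^ 2 else 0)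
      (fun χ => by split_ifs <;> positivity) hSt1
    rw [E.sum_non', if_pos h1n, if_pos hsn, hc1, hcs] at h2
    rcases E.hδ with hd | hd <;> rw [hd] at h2 ⊢ <;> push_cast at h2 ⊢ <;> linarith
  have hb2 : E.b ^ 2 = (E.δ * E.b) ^ 2 := by
    rcases E.hδ with hd | hd <;> rw [hd] <;> ring
  -- degree
  obtain ⟨e, he0, he⟩ := Char.IsIrrCharacter.exists_degree (E.ξ i0).2
  have hoff1 : Off A (1 : ↥(foldK K m).fix) := fun _ _ => rfl
  have hei : ∀ i, (E.ξ i : ↥(foldK K m).fix → ℂ) 1 = (e : ℂ) := fun i => by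
    rw [E.val_off i i0 1 hoff1, he]
  have hde : (3 ^ (2 * m + 1)) ^ 2 - 3 ^ (2 * m + 1) + 1 ≤ e := by
    have h := degree_ge hK hm (E.ξ i0) (h1n i0)
    rw [he, Complex.norm_natCast] at h
    have hle : 3 ^ (2 * m + 1) ≤ (3 ^ (2 * m + 1)) ^ 2 := Nat.le_self_pow (by norm_num) _
    have h' : (((3 ^ (2 * m + 1)) ^ 2 - 3 ^ (2 * m + 1) + 1 : ℕ) : ℝ) ≤ (e : ℝ) := by
      push_cast [Nat.cast_sub hle]; exact h
    exact_mod_cast h'
  obtain ⟨j, hj⟩ := E.half_dvd_degree D (reg_coprime hK D hP hA) i0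
  rw [he] at hj
  have hhalf : (3 ^ (2 * m + 1) - 1) / 2 ∣ e := ⟨j, by exact_mod_cast hj⟩
  -- the centre of `U¹`
  obtain ⟨nz, hnz⟩ := exists_nat_sub_zc hK (E.ξ i0)
  rw [he] at hnz
  set φ : ℤ := (e : ℤ) - ((3 : ℤ) ^ (2 * m + 1)) ^ 2 * nz with hφ
  have hφC : (E.ξ i0 : ↥(foldK K m).fix → ℂ) (zc hK 1) = (φ : ℂ) := by
    rw [hφ]; push_cast; linear_combination -hnz
  have hφt : (t : ℤ) * φ ^ 2 ≤ ((3 : ℤ) ^ (2 * m + 1)) ^ 3 := by
    have hoz := off_of_order hK D hP hA (Or.inr (Or.inl (orderOf_zc_one hK D hP)))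
    have h1 := E.exc_sq_le i0 hoz
    rw [hφC, Complex.norm_intCast, sq_abs] at h1
    have hne1 : zc hK (1 : K) ≠ 1 := fun h => one_ne_zero (zc_inj hK (h.trans (zc_zero hK).symm))
    have h2 : (Nat.card (centralizer ({zc hK (1 : K)} : Set ↥(foldK K m).fix)) : ℝ) ≤
        ((3 ^ (2 * m + 1)) ^ 3 : ℕ) := by exact_mod_cast centralizer_le_cube hK D hP hne1
    have h3 := h1.trans h2
    push_cast at h3
    exact_mod_cast h3
  -- the other torus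
  have hoff' : ∀ b ∈ A', b ≠ 1 → Off A b := by
    intro b hb hb1 h hh
    rw [← orderOf_eq_one_iff]
    refine Nat.eq_one_of_dvd_coprimes hcop ?_ (orderOf_dvd_natCard _ hb)
    rw [← orderOf_conj h b]; exact orderOf_dvd_natCard _ hh
  have hnr : ∀ i j, E'.ξ j ≠ E.ξ i := by
    intro i j hji
    obtain ⟨i', hi'⟩ : ∃ i' : Fin t, i' ≠ i := by
      haveI : Nontrivial (Fin t) := Fin.nontrivial_iff_two_le.2 (by have := E.t_three; omega)
      exact exists_ne i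
    by_cases hr' : ∀ j', E'.ξ j' ≠ E.ξ i'
    · obtain ⟨b, hb, hb1, hne'⟩ := E'.nonconst j (E'.c (E.ξ i'))
      refine hne' ?_
      rw [hji, E.val_off i i' b (hoff' b hb hb1), E'.val_non _ hr' b hb hb1]
    · push Not at hr'
      obtain ⟨j', hj'⟩ := hr'
      have hjj : j ≠ j' := fun h => hi' (E.inj (hj'.symm.trans (h ▸ hji)))
      obtain ⟨b, hb, hb1, hne'⟩ := E'.sep j j' hjj
      exact hne' (by rw [hji, hj', E.val_off i i' b (hoff' b hb hb1)])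
  set φ' : ℤ := E'.c (E.ξ i0) with hφ'
  have hc' : ∀ i, E'.c (E.ξ i) = φ' := fun i => by
    have h1 := E'.val_non (E.ξ i) (fun j => hnr i j) a' ha' ha'1
    have h2 := E'.val_non (E.ξ i0) (fun j => hnr i0 j) a' ha' ha'1
    rw [E.val_off i i0 a' (hoff' a' ha' ha'1), h2] at h1
    exact (Int.cast_injective h1).symm
  have hφ't : (t : ℤ) * φ' ^ 2 ≤ 4 := by
    set f : IrrCharacter ↥(foldK K m).fix → ℤ :=
      fun χ => if ∀ j, E'.ξ j ≠ χ then E'.c χ ^ 2 else 0 with hf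
    have h1 : ∑ χ, f χ = _ := E'.sum_non'
    have h2 := pair_add_range_le f (fun χ => by simp only [hf]; split_ifs <;> positivity) hSt1 E.inj hsn h1n
    rw [h1, Finset.sum_congr rfl (g := fun _ : Fin t => φ' ^ 2) (fun i _ => by
      rw [hf]; simp only [if_pos (fun j => hnr i j), hc']), Finset.sum_const, Finset.card_univ,
      Fintype.card_fin, nsmul_eq_mul,
      show f (oneChar ↥(foldK K m).fix) = 1 by rw [hf]; simp only [if_pos h1n', hc1'],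
      show f St' = 1 by rw [hf]; simp only [if_pos hsn', hcs']] at h2
    have h3 : 2 * (E'.δ * E'.b) - (t' : ℤ) * E'.b ^ 2 ≤ 0 := by
      have ht' : (3 : ℤ) ≤ (t' : ℤ) := by exact_mod_cast E'.t_three
      rcases E'.hδ with hd | hd <;> rw [hd] <;> by_cases hb0 : E'.b = 0 <;>
        first
        | (rw [hb0]; simp)
        | (have : 1 ≤ E'.b ^ 2 := by
             have := Int.one_le_abs hb0
             nlinarith [sq_abs E'.b]
           nlinarith [sq_nonneg (E'.b - 1), sq_nonneg (E'.b + 1)])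
    push_cast at h2
    linarith
  obtain ⟨z', hz'⟩ : ∃ z' : ℤ, (e : ℤ) = φ' + (Nat.card A' : ℤ) * z' := by
    haveI := Fintype.ofFinite A'
    obtain ⟨n', hn'⟩ := ClassCount.exists_sum_subgroup_eq A'
      (Char.IsIrrCharacter.isCharacter (E.ξ i0).2)
    refine ⟨(n' : ℤ) - φ', ?_⟩
    rw [Fintype.sum_eq_add_sum_compl (1 : A'), Finset.sum_congr rfl (fun (b : A') hb => E'.val_non (E.ξ i0)
      (fun j => hnr i0 j) (b : ↥(foldK K m).fix) b.2 (fun h => by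
        simp only [Finset.mem_compl, Finset.mem_singleton] at hb
        exact hb (Subtype.ext h))), Finset.sum_const, OneMemClass.coe_one, he, Finset.card_compl,
      Finset.card_singleton, ← Nat.card_eq_fintype_card, nsmul_eq_mul, Nat.cast_sub Nat.card_pos] at hn'
    apply Int.cast_injective (α := ℂ)
    push_cast at hn' ⊢
    linear_combination hn'
  obtain ⟨z, hz⟩ := E.congr i0
  rw [he] at hz
  have hu' := u_cases E.t_three hu
  have hb : E.b = E.δ * (E.δ * E.b) := by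
    rcases E.hδ with hd | hd <;> rw [hd] <;> ring
  refine ⟨t, e, E, St', E.δ * E.b, ε, φ, (nz : ℤ), φ', z, z', Nat.card A', hSt1, ?_, h1n, hsn, hc1, hcs, hu', rfl, hb2,
    fun i => by rw [hei i, Complex.norm_natCast], hde, hhalf, hε, hkA, hkA', ?_, ?_, hφt, hz', hφ't, ?_⟩
  · rw [hSt']
    show ‖St ↥(foldK K m).fix 1‖ = _
    rw [st_one D]
    simp
  · refine ((reg_coprime hK D hP hA').coprime_dvd_right (dvd_mul_of_dvd_right ?_ _)).symm
    exact ⟨2, by omega⟩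
  · rw [hφ]; ring
  · have hz' : (e : ℤ) = E.b + E.δ * 6 + (Nat.card A : ℤ) * z := by exact_mod_cast hz
    rw [hz']
    conv_lhs => rw [hb]
    ring

set_option maxHeartbeats 1000000 in
theorem cov_regular [Fintype ↥(foldK K m).fix] [Fintype (IrrCharacter ↥(foldK K m).fix)] (hm : 1 ≤ m)
    {A : Subgroup ↥(foldK K m).fix} (hA : D.IsReg A)
    {x g : ↥(foldK K m).fix} (hx : x ∈ A) (hx1 : x ≠ 1)
    (hg : orderOf g = 2 ∨ orderOf g = 3 ∨ orderOf g = 9) : Cov x g⁻¹ := by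
  classical
  have hgoff := off_of_order hK D hP hA hg
  have hg1 : g ≠ 1 := fun e => by rw [e, orderOf_one] at hg; omega
  obtain ⟨t, e, E, St', u, ε, φ, nz, φ', z, z', k', hSt1, hsdeg, h1n, hsn, hc1, hcs, hu, hub, hb2, hei, hde,
    hhalf, hε, hkA, hkA', hcop, hphi, hφt, hez', hφ't, hez⟩ := exists_exc_facts hK D hP hm hA
  have i0 : Fin t := ⟨0, by have := E.t_three; omega⟩
  have he0 : (0 : ℝ) < e := by exact_mod_cast (show 0 < e by omega)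
  have hq1 : (1 : ℝ) < (3 : ℝ) ^ (2 * m + 1) := one_lt_pow₀ (by norm_num) (by omega)
  have hd0 : (0 : ℝ) < ((3 : ℝ) ^ (2 * m + 1)) ^ 2 - (3 : ℝ) ^ (2 * m + 1) + 1 := by nlinarith
  have hk6 : (Nat.card A : ℝ) = 6 * t + 1 := by exact_mod_cast E.card_t.symm
  have hCg : (Nat.card (centralizer ({g} : Set ↥(foldK K m).fix)) : ℝ) ≤ ((3 : ℝ) ^ (2 * m + 1)) ^ 3 := by
    exact_mod_cast centralizer_le_cube hK D hP hg1
  set F0 := ‖(E.ξ i0 : ↥(foldK K m).fix → ℂ) g‖ with hF0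
  have hF : ∀ i, ‖(E.ξ i : ↥(foldK K m).fix → ℂ) g‖ ≤ F0 := fun i => by rw [E.val_off i i0 g hgoff]
  have hFt : (t : ℝ) * F0 ^ 2 ≤ ((3 : ℝ) ^ (2 * m + 1)) ^ 3 := (E.exc_sq_le i0 hgoff).trans hCg
  -- reduce to the numerical inequality
  suffices key : ∃ Q F : ℝ, ((3 : ℝ) ^ (2 * m + 1)) ^ 3 ≤ Q ^ 2 ∧ 0 ≤ Q ∧ F0 ≤ F ∧
      ((4 + 2 * u - (t : ℤ) * u ^ 2 : ℤ) : ℝ) * Q / (((3 : ℝ) ^ (2 * m + 1)) ^ 2 - (3 : ℝ) ^ (2 * m + 1) + 1) +
        Q / ((3 : ℝ) ^ (2 * m + 1)) ^ 3 +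
        ((Nat.card A : ℝ) - ((6 + 2 * u - (t : ℤ) * u ^ 2 : ℤ) : ℝ)) * F / e < 1 by
    obtain ⟨Q, F, hQ, hQ0, hFF, hlt⟩ := key
    have hQχ : ∀ χ : IrrCharacter ↥(foldK K m).fix, ‖(χ : ↥(foldK K m).fix → ℂ) g‖ ≤ Q := fun χ =>
      (norm_le_sqrt χ g).trans ((Real.sqrt_le_left hQ0).2 (hCg.trans hQ))
    have hdeg : ∀ χ : IrrCharacter ↥(foldK K m).fix, χ ≠ oneChar ↥(foldK K m).fix →
        ((3 : ℝ) ^ (2 * m + 1)) ^ 2 - (3 : ℝ) ^ (2 * m + 1) + 1 ≤ ‖(χ : ↥(foldK K m).fix → ℂ) 1‖ :=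
      fun χ hχ => degree_ge hK hm χ hχ
    have hqc : (0 : ℝ) < ((3 : ℝ) ^ (2 * m + 1)) ^ 3 := pow_pos (pow_pos (by norm_num) _) _
    have hbound := exc_bound (d := ((3 : ℝ) ^ (2 * m + 1)) ^ 2 - (3 : ℝ) ^ (2 * m + 1) + 1)
      (qc := ((3 : ℝ) ^ (2 * m + 1)) ^ 3) (e := (e : ℝ)) (F := F) (Q := Q)
      E (reg_ccSub hK D hP hA) hx hx1 hgoff hSt1 h1n hsn hc1 hcs hd0 hqc he0
      hdeg hsdeg hei (fun i => (hF i).trans hFF) hQχ
    rw [hub, hb2] at hbound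
    refine cov_of_bound (lt_of_le_of_lt (hbound.trans (le_of_eq ?_)) hlt)
    push_cast
    ring
  exact numeric_key hm (by exact_mod_cast E.card_t.symm) E.hδ hu hε hkA hkA' hcop hde hhalf hphi hφt hez'
    hφ't hez (norm_nonneg _) hFt

end Cfsg.Agent.ReeCover
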